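import Groth.Agent.KunnAD.SecCx
import Groth.Agent.DQPush.Trunc
import Groth.Agent.DQPush.Acyclic
import Groth.Agent.DQCoh.DerCalc
import Groth.Agent.DQCoh.Affine
import Groth.Agent.AcycDef.SumPreserve
import Groth.Prelude.Def_HTor
import Mathlib.CategoryTheory.Abelian.Injective.Extend

/-!
Complexes of quasi-coherent modules without higher cohomology compute `RΓ(X, -)` with values in `D(A)`.
-/

set_option autoImplicit false
set_option backward.isDefEq.respectTransparency false
set_option backward.isDefEq.respectTransparency.types false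
set_option linter.style.haveILetI false
set_option linter.unusedSectionVars false
set_option maxHeartbeats 2000000

universe u

open CategoryTheory CategoryTheory.Limits AlgebraicGeometry TopologicalSpace Opposite Pretriangulated

attribute [local instance] HasDerivedCategory.standard

noncomputable section

namespace Groth.Agent.KunnAD

open Groth.Agent.DQCoh (IsAboveD mIsoD_iff)

variable {A : Type u} [CommRing A] {X : Scheme.{u}} [X.Over (Spec (CommRingCat.of A))]

/-- global sections with values in `A`-modules -/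
abbrev gam (A : Type u) [CommRing A] {X : Scheme.{u}} [X.Over (Spec (CommRingCat.of A))] :
    X.Modules ⥤ ModuleCat.{u} A :=
  HTor.globalSectionsA (X ↘ Spec (CommRingCat.of A))

/-- global sections of a complex -/
abbrev gamCx (A : Type u) [CommRing A] {X : Scheme.{u}} [X.Over (Spec (CommRingCat.of A))] :
    CochainComplex X.Modules ℤ ⥤ CochainComplex (ModuleCat.{u} A) ℤ :=
  (gam A (X := X)).mapHomologicalComplex (ComplexShape.up ℤ)

instance preservesFiniteLimits_gam : PreservesFiniteLimits (gam A (X := X)) := by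
  haveI : PreservesLimitsOfSize.{0, 0} (moduleSpecΓFunctor (R := CommRingCat.of A)) :=
    (tilde.adjunction (R := CommRingCat.of A)).rightAdjoint_preservesLimits
  haveI : PreservesLimitsOfSize.{0, 0} (Scheme.Modules.pushforward (X ↘ Spec (CommRingCat.of A))) :=
    (Scheme.Modules.pullbackPushforwardAdjunction _).rightAdjoint_preservesLimits
  haveI : PreservesFiniteLimits (moduleSpecΓFunctor (R := CommRingCat.of A)) := inferInstance
  haveI : PreservesFiniteLimits (Scheme.Modules.pushforward (X ↘ Spec (CommRingCat.of A))) := inferInstance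
  exact inferInstanceAs (PreservesFiniteLimits
    (Scheme.Modules.pushforward (X ↘ Spec (CommRingCat.of A)) ⋙ moduleSpecΓFunctor (R := CommRingCat.of A)))

lemma exactAt_gamCx_iff (K : CochainComplex X.Modules ℤ) (i : ℤ) :
    ((gamCx A).obj K).ExactAt i ↔
      ∀ x : Γ(K.X i, ⊤), (K.d i (i + 1)).app ⊤ x = 0 → ∃ y, (K.d (i - 1) i).app ⊤ y = x := by
  rw [HomologicalComplex.exactAt_iff' _ (i - 1) i (i + 1) (by simp) (by simp), ShortComplex.moduleCat_exact_iff]
  rfl

/-- maps out of the free module on the whole space -/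
abbrev topP (X : Scheme.{u}) : X.Modules := HDU.freeMod X.sheaf (⊤ : X.Opens)

/-- sections as maps -/
def topSec (M : X.Modules) : (topP X ⟶ M) ≃+ Γ(M, ⊤) := HDU.modSec X.sheaf (⊤ : X.Opens) M

lemma topSec_comp {M N : X.Modules} (φ : M ⟶ N) (h : topP X ⟶ M) :
    topSec N (h ≫ φ) = φ.app ⊤ (topSec M h) :=
  HDU.modSec_comp X.sheaf h φ

lemma exists_of_subsingleton (J : CochainComplex X.Modules ℤ) [J.IsKInjective]
    (h : Subsingleton ((DerivedCategory.singleFunctor X.Modules 0).obj (topP X) ⟶ DerivedCategory.Q.obj J))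
    (g : topP X ⟶ J.X 0) (hg : g ≫ J.d 0 1 = 0) : ∃ k : topP X ⟶ J.X (-1), k ≫ J.d (-1) 0 = g := by
  let φ : (CochainComplex.singleFunctor X.Modules 0).obj (topP X) ⟶ J :=
    HomologicalComplex.mkHomFromSingle g (fun i hi => by obtain rfl : (0 : ℤ) + 1 = i := hi; simpa using hg)
  have h0 : (DerivedCategory.Q : _ ⥤ DCoh.D X).map φ = DerivedCategory.Q.map 0 := h.elim _ _
  obtain ⟨H⟩ := KInj.nonempty_homotopy_of_Q_map_eq h0
  refine ⟨(HomologicalComplex.singleObjXSelf (ComplexShape.up ℤ) 0 (topP X)).inv ≫ H.hom 0 (-1), ?_⟩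
  have h1 : φ.f 0 = H.hom 0 (-1) ≫ J.d (-1) 0 := by
    have h := H.comm 0
    rw [dNext_eq _ (show (ComplexShape.up ℤ).Rel 0 1 by simp), prevD_eq _ (show (ComplexShape.up ℤ).Rel (-1) 0 by simp)] at h
    simpa [CochainComplex.singleFunctor, CochainComplex.singleFunctors] using h
  rw [Category.assoc, ← h1]
  simp [φ]

/-- no maps in the derived category, no cohomology of the sections -/
theorem exactAt_gam_of_subsingleton (I : CochainComplex X.Modules ℤ) [I.IsKInjective] (q : ℤ)
    (h : Subsingleton ((DerivedCategory.singleFunctor X.Modules 0).obj (topP X) ⟶ (DerivedCategory.Q.obj I)⟦q⟧)) :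
    ((gamCx A).obj I).ExactAt q := by
  have h' : Subsingleton ((DerivedCategory.singleFunctor X.Modules 0).obj (topP X) ⟶ DerivedCategory.Q.obj (I⟦q⟧)) :=
    @Equiv.subsingleton _ _ (Iso.homCongr (Iso.refl _) (((DerivedCategory.Q : _ ⥤ DCoh.D X).commShiftIso q).app I)) h
  rw [exactAt_gamCx_iff]
  intro x hx
  obtain ⟨g, rfl⟩ := (topSec (I.X q)).surjective x
  have hg : g ≫ I.d q (q + 1) = 0 := (topSec _).injective (by rw [topSec_comp, hx, map_zero])
  let e (k : ℤ) (m : ℤ) (hm : k + q = m) : (I⟦q⟧).X k ≅ I.X m := I.XIsoOfEq hm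
  obtain ⟨k, hk⟩ := exists_of_subsingleton (I⟦q⟧) h' (g ≫ (e 0 q (zero_add q)).inv) (by
    have h1 : (e 0 q (zero_add q)).inv ≫ (I⟦q⟧).d 0 1 = q.negOnePow • (I.d q (q + 1) ≫ (e 1 (q + 1) (by omega)).inv) := by
      simp [e]
    rw [Category.assoc, h1, Linear.comp_units_smul, reassoc_of% hg, zero_comp, smul_zero])
  refine ⟨topSec _ (q.negOnePow • (k ≫ (e (-1) (q - 1) (by omega)).hom)), ?_⟩
  rw [← topSec_comp]
  refine congrArg (topSec _) ?_
  have h2 : (I⟦q⟧).d (-1) 0 = q.negOnePow • ((e (-1) (q - 1) (by omega)).hom ≫ I.d (q - 1) q ≫ (e 0 q (zero_add q)).inv) := by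
    simp [e]
  rw [h2, Linear.comp_units_smul] at hk
  rw [Linear.units_smul_comp, Category.assoc, ← cancel_mono (e 0 q (zero_add q)).inv, Linear.units_smul_comp,
    Category.assoc, Category.assoc]
  exact hk

/-- no higher cohomology -/
def NoHigher (M : X.Modules) : Prop := ∀ i : ℕ, 0 < i → Subsingleton (CohSite.HU (Coh.toAb M) i ⊤)

lemma subsingleton_hom_single {M : X.Modules} {i : ℕ} (hi : 0 < i)
    (h : Subsingleton (CohSite.HU (Coh.toAb M) i ⊤)) :
    Subsingleton ((DerivedCategory.singleFunctor X.Modules 0).obj (topP X) ⟶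
      ((DerivedCategory.singleFunctor X.Modules 0).obj M)⟦(i : ℤ)⟧) :=
  HDU.modVan X.sheaf M i hi ⊤ h

lemma noHigher_of_iso {M N : X.Modules} (e : M ≅ N) (h : NoHigher M) : NoHigher N := fun i hi => by
  exact @Equiv.subsingleton _ _
    (((Abelian.extFunctorObj _ i).mapIso ((SheafOfModules.toSheaf X.ringCatSheaf).mapIso e)).symm.addCommGroupIsoToAddEquiv.toEquiv)
    (h i hi)

lemma noHigher_of_isZero {M : X.Modules} (h : IsZero M) : NoHigher M := fun i _ =>
  AddCommGrpCat.subsingleton_of_isZero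
    ((Abelian.extFunctorObj _ i).map_isZero ((SheafOfModules.toSheaf X.ringCatSheaf).map_isZero h))

/-- modules without higher cohomology are acyclic for global sections -/
theorem acyc_of_noHigher [HasInjectiveResolutions X.Modules] {M : X.Modules} (h : NoHigher M) :
    AcycDef.Acyc (gam A) M := by
  intro i hi
  obtain ⟨R⟩ := (inferInstance : HasInjectiveResolution M).out
  haveI : R.cochainComplex.IsKInjective := CochainComplex.isKInjective_of_injective R.cochainComplex 0
  refine IsZero.of_iso ?_ (R.isoRightDerivedObj (gam A) i)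
  have he := exactAt_gam_of_subsingleton (A := A) R.cochainComplex (i : ℤ) <| by
    haveI : IsIso ((DerivedCategory.Q : _ ⥤ DCoh.D X).map R.ι') := inferInstance
    let e : (DerivedCategory.singleFunctor X.Modules 0).obj M ≅ DerivedCategory.Q.obj R.cochainComplex :=
      (DerivedCategory.singleFunctorIsoCompQ X.Modules 0).app M ≪≫ asIso (DerivedCategory.Q.map R.ι')
    exact @Equiv.subsingleton _ _
      (Iso.homCongr (Iso.refl _) ((shiftFunctor (DCoh.D X) (i : ℤ)).mapIso e)).symm
      (subsingleton_hom_single hi (h i hi))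
  rw [exactAt_gamCx_iff] at he
  obtain ⟨m, rfl⟩ : ∃ m, i = m + 1 := ⟨i - 1, by omega⟩
  refine HomologicalComplex.exactAt_iff_isZero_homology _ _ |>.1 ?_
  rw [HomologicalComplex.exactAt_iff' _ m (m + 1) (m + 2) (by simp) (by simp), ShortComplex.moduleCat_exact_iff]
  intro x (hx : (R.cocomplex.d (m + 1) (m + 2)).app ⊤ x = 0)
  let x₁ := R.cochainComplexXIso ((m + 1 : ℕ) : ℤ) (m + 1) rfl
  let x₀ := R.cochainComplexXIso (((m + 1 : ℕ) : ℤ) - 1) m (by omega)
  obtain ⟨y, hy⟩ := he (x₁.inv.app ⊤ x) (by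
    change (x₁.inv ≫ R.cochainComplex.d _ _).app ⊤ x = 0
    rw [R.cochainComplex_d _ _ (m + 1) (m + 2) rfl (by omega)]
    simp only [x₁, Iso.inv_hom_id_assoc]
    change (InjectiveResolution.cochainComplexXIso R _ (m + 2) _).inv.app ⊤ ((R.cocomplex.d (m + 1) (m + 2)).app ⊤ x) = 0
    rw [hx, map_zero])
  refine ⟨x₀.hom.app ⊤ y, ?_⟩
  change (x₀.hom ≫ R.cocomplex.d m (m + 1)).app ⊤ y = x
  have h3 : R.cochainComplex.d (((m + 1 : ℕ) : ℤ) - 1) ((m + 1 : ℕ) : ℤ) ≫ x₁.hom = x₀.hom ≫ R.cocomplex.d m (m + 1) := by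
    rw [R.cochainComplex_d _ _ m (m + 1) (by omega) rfl]
    simp [x₁, x₀]
  rw [← h3]
  change x₁.hom.app ⊤ ((R.cochainComplex.d _ _).app ⊤ y) = x
  rw [hy]
  change (x₁.inv ≫ x₁.hom).app ⊤ x = x
  rw [Iso.inv_hom_id]
  rfl

variable [CompactSpace X] [QuasiSeparatedSpace X]

lemma exists_hu_bound : ∃ d : ℕ, ∀ (M : X.Modules), Coh.IsQCoh M → ∀ p : ℕ, d < p →
    Subsingleton (CohSite.HU (Coh.toAb M) p ⊤) := by
  obtain ⟨d, hd⟩ := CohQC.exists_bound (⊤ : X.Opens)
    (by rw [TopologicalSpace.Opens.coe_top]; exact isQuasiSeparated_univ) ⊤ isCompact_univ le_rfl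
  refine ⟨d, fun M hM p hp => ?_⟩
  have h := hd M hM p hp.le 1
  rwa [X.basicOpen_of_isUnit isUnit_one] at h

/-- hypercohomology of bounded above objects with quasi-coherent cohomology vanishes in high degrees -/
theorem exists_vanishing : ∃ d : ℕ, ∀ (K : DCoh.D X), DCoh.IsQCohD K → ∀ b : ℤ, K.IsLE b → ∀ j : ℤ, b + d + 1 < j →
    Subsingleton ((DerivedCategory.singleFunctor X.Modules 0).obj (topP X) ⟶ K⟦j⟧) := by
  obtain ⟨d, hd⟩ := exists_hu_bound (X := X)
  refine ⟨d, fun K hK b hb j hj => ?_⟩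
  haveI : IsGrothendieckAbelian.{u} (ModSite.Mod X.sheaf) := KFlat.isGrothendieck X.sheaf
  haveI := hb
  let K' : DerivedCategory (ModSite.Mod X.sheaf) := K⟦b + 1⟧
  haveI hle : K'.IsLE (-1) := DerivedCategory.TStructure.t.isLE_shift K b (b + 1) (-1) (by omega)
  have hq : WSerre.cohIn (DQPush.qc X) K' := fun i =>
    QC.isQCoh_of_iso ((((DerivedCategory.homologyFunctor X.Modules 0).shiftIso (b + 1) i (b + 1 + i) rfl).app K).symm)
      (hK _)
  have hb' := RPushSite.bijective_toTrunc (DQPush.qc X) {W : X.Opens | IsAffineOpen W} DQPush.exists_affine_cover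
    (fun V _ => ⟨0, DQPush.affine_cofinal V⟩) K' hq (Y := (⊤ : X.Opens)) (d := d) (fun F hF p hp => hd F hF p hp)
    (j - (b + 1)) 0 (by omega)
  have hz : IsZero (CohCx.truncTower K' 0) := by
    haveI : DerivedCategory.TStructure.t.IsGE (CohCx.truncTower K' 0) 0 :=
      DerivedCategory.TStructure.t.isGE_truncGE_obj K' _ _ (by simp)
    exact DerivedCategory.TStructure.t.isZero _ (-1) 0 (by omega)
  let e : (K'⟦j - (b + 1)⟧) ≅ K⟦j⟧ := ((shiftFunctorAdd' (DCoh.D X) (b + 1) (j - (b + 1)) j (by omega)).app K).symm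
  refine @Equiv.subsingleton _ _ (Iso.homCongr (Iso.refl _) e).symm ⟨fun x y => hb'.1 ?_⟩
  exact ((shiftFunctor (DCoh.D X) (j - (b + 1))).map_isZero hz).eq_of_tgt _ _

omit [CompactSpace X] [QuasiSeparatedSpace X] in
lemma isQCoh_mappingCone {K L : CochainComplex X.Modules ℤ} (φ : K ⟶ L) (hK : ∀ n, Coh.IsQCoh (K.X n))
    (hL : ∀ n, Coh.IsQCoh (L.X n)) (n : ℤ) : Coh.IsQCoh ((CochainComplex.mappingCone φ).X n) :=
  QC.isQCoh_of_iso (HomologicalComplex.homotopyCofiber.XIsoBiprod φ n (n + 1) rfl).symm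
    (RPushQC.isQCoh_biprod (hK _) (hL _))

omit [CompactSpace X] [QuasiSeparatedSpace X] in
lemma homologyMap_square {C : Type*} [Category* C] [Abelian C] {D : Type*} [Category* D] [Abelian D] (F : C ⥤ D)
    [F.Additive] {K L M N : CochainComplex C ℤ} {a : K ⟶ L} {b : L ⟶ N} {c : K ⟶ M} {e : M ⟶ N}
    (H : Homotopy (a ≫ b) (c ≫ e)) (q : ℤ) :
    HomologicalComplex.homologyMap ((F.mapHomologicalComplex (ComplexShape.up ℤ)).map a) q ≫
        HomologicalComplex.homologyMap ((F.mapHomologicalComplex (ComplexShape.up ℤ)).map b) q =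
      HomologicalComplex.homologyMap ((F.mapHomologicalComplex (ComplexShape.up ℤ)).map c) q ≫
        HomologicalComplex.homologyMap ((F.mapHomologicalComplex (ComplexShape.up ℤ)).map e) q := by
  rw [← HomologicalComplex.homologyMap_comp, ← HomologicalComplex.homologyMap_comp, ← Functor.map_comp,
    ← Functor.map_comp]
  exact (F.mapHomotopy H).homologyMap_eq q

omit [CompactSpace X] [QuasiSeparatedSpace X] in
lemma isKInjective_cone {K L : CochainComplex X.Modules ℤ} (u : K ⟶ L)
    [K.IsKInjective] [L.IsKInjective] : (CochainComplex.mappingCone u).IsKInjective := by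
  let P := (HomotopyCategory.subcategoryAcyclic X.Modules).rightOrthogonal
  have h := P.ext_of_isTriangulatedClosed₃' _ (HomotopyCategory.mappingCone_triangleh_distinguished u)
    ((CochainComplex.isKInjective_iff_rightOrthogonal K).1 ‹_›) ((CochainComplex.isKInjective_iff_rightOrthogonal L).1 ‹_›)
  rw [P.isoClosure_eq_self] at h
  exact (CochainComplex.isKInjective_iff_rightOrthogonal _).2 h

/-- complexes of quasi-coherent modules without higher cohomology compute derived global sections -/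
theorem isIso_unit [HTor.HasRΓA (X ↘ Spec (CommRingCat.of A))] (C : CochainComplex X.Modules ℤ)
    (hq : ∀ n, Coh.IsQCoh (C.X n)) (hac : ∀ n, NoHigher (C.X n)) :
    IsIso (((HTor.gammaAKh (X ↘ Spec (CommRingCat.of A))).totalRightDerivedUnit DerivedCategory.Qh
      (HomotopyCategory.quasiIso X.Modules (ComplexShape.up ℤ))).app
        ((HomotopyCategory.quotient X.Modules (ComplexShape.up ℤ)).obj C)) := by
  haveI : IsGrothendieckAbelian.{u} X.Modules := DerPush.isGrothendieckAbelian_modules X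
  haveI : HasInjectiveResolutions X.Modules := DQPush.hasInj X
  haveI : (HTor.RΓA (X ↘ Spec (CommRingCat.of A))).IsRightDerivedFunctor
      ((HTor.gammaAKh (X ↘ Spec (CommRingCat.of A))).totalRightDerivedUnit DerivedCategory.Qh
        (HomotopyCategory.quasiIso X.Modules (ComplexShape.up ℤ)))
      (HomotopyCategory.quasiIso X.Modules (ComplexShape.up ℤ)) := inferInstance
  rw [← AcycDef.isIso_unitQ_iff (gam A) (HTor.RΓA (X ↘ Spec (CommRingCat.of A)))]
  obtain ⟨I, s, hI, hs, -, hinj⟩ := KInj.exists_kInjective C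
  haveI := hI
  haveI := hs
  refine AcycDef.isIso_unitQ_of_quasiIso (gam A) (HTor.RΓA (X ↘ Spec (CommRingCat.of A))) _ s ⟨fun q => ?_⟩
  rw [quasiIsoAt_iff_isIso_homologyMap]
  obtain ⟨d, hd⟩ := exists_vanishing (X := X)
  let a : ℤ := q - d - 4
  let σ := DQCoh.σGE C a
  haveI : σ.IsStrictlyGE a := (CochainComplex.isStrictlyGE_iff _ _).2 fun i hi => DQCoh.isZero_σGE_X C a i hi
  -- a resolution of the truncation
  obtain ⟨Iσ, t, ht, hIσ, hGE⟩ := CochainComplex.Plus.modelCategoryQuillen.exists_quasiIso_injective σ a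
  haveI := hIσ
  haveI : Iσ.IsKInjective := CochainComplex.isKInjective_of_injective Iσ a
  have hσac : ∀ k, AcycDef.Acyc (gam A) (σ.X k) := fun k => acyc_of_noHigher <| by
    rcases lt_or_ge k a with hk | hk
    · exact noHigher_of_isZero (DQCoh.isZero_σGE_X C a k hk)
    · haveI := DQCoh.isIso_σι_f C a k hk
      exact noHigher_of_iso (asIso ((DQCoh.σι C a).f k)).symm (hac k)
  have hFt : QuasiIso ((gamCx A).map t) := by
    refine AcycDef.quasiIso_map_of_cone (gam A) t ?_
    haveI : (CochainComplex.mappingCone t).IsStrictlyGE (a - 1) :=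
      (CochainComplex.isStrictlyGE_iff _ _).2 fun k hk => by
        rw [IsZero.iff_id_eq_zero, ← CochainComplex.mappingCone.id_X t k (k + 1) rfl,
          (σ.isZero_of_isStrictlyGE a (k + 1) (by omega)).eq_of_tgt
            ((CochainComplex.mappingCone.fst t).1.v k (k + 1) rfl) 0,
          (Iσ.isZero_of_isStrictlyGE a k (by omega)).eq_of_tgt
            ((CochainComplex.mappingCone.snd t).v k k (add_zero k)) 0,
          zero_comp, zero_comp, add_zero]
    exact AcycDef.acyclic_map_of_bdd (gam A) (a := a - 1) ((DerPlus.quasiIso_iff_acyclic_mappingCone t).1 ht)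
      (AcycDef.acyc_mappingCone (gam A) t hσac fun k => AcycDef.acyc_injective (gam A) (Iσ.X k))
  -- the comparison of the resolutions
  haveI : IsIso ((DerivedCategory.Q : _ ⥤ DCoh.D X).map t) := (DerivedCategory.isIso_Q_map_iff_quasiIso _ _).2 ht
  obtain ⟨j, hj⟩ := KInj.Q_map_surjective (K := Iσ) (I := I)
    (inv ((DerivedCategory.Q : _ ⥤ DCoh.D X).map t) ≫ DerivedCategory.Q.map (DQCoh.σι C a ≫ s))
  have hj' : (DerivedCategory.Q : _ ⥤ DCoh.D X).map (t ≫ j) = DerivedCategory.Q.map (DQCoh.σι C a ≫ s) := by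
    rw [Functor.map_comp, hj, IsIso.hom_inv_id_assoc]
  obtain ⟨H⟩ := KInj.nonempty_homotopy_of_Q_map_eq hj'
  haveI hJ : (CochainComplex.mappingCone j).IsKInjective := isKInjective_cone j
  -- the cone of the comparison
  have hcone : DCoh.IsQCohD ((DerivedCategory.Q : _ ⥤ DCoh.D X).obj (CochainComplex.mappingCone j)) ∧
      ((DerivedCategory.Q : _ ⥤ DCoh.D X).obj (CochainComplex.mappingCone j)).IsLE a := by
    haveI : IsIso ((DerivedCategory.Q : _ ⥤ DCoh.D X).map s) := (DerivedCategory.isIso_Q_map_iff_quasiIso _ _).2 hs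
    let M := CochainComplex.mappingCone (DQCoh.σι C a)
    let e : (DerivedCategory.Q : _ ⥤ DCoh.D X).obj M ≅ DerivedCategory.Q.obj (CochainComplex.mappingCone j) :=
      Triangle.π₃.mapIso (Pretriangulated.isoTriangleOfIso₁₂ _ _
        (DerivedCategory.mappingCone_triangle_distinguished (DQCoh.σι C a))
        (DerivedCategory.mappingCone_triangle_distinguished j) (asIso (DerivedCategory.Q.map t))
        (asIso (DerivedCategory.Q.map s)) (by
          change DerivedCategory.Q.map (DQCoh.σι C a) ≫ DerivedCategory.Q.map s = DerivedCategory.Q.map t ≫ DerivedCategory.Q.map j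
          rw [← Functor.map_comp, ← Functor.map_comp, hj']))
    have hσq : ∀ n, Coh.IsQCoh (σ.X n) := fun n => by
      rcases lt_or_ge n a with h | h
      · exact DQCoh.isQCoh_of_isZero (DQCoh.isZero_σGE_X C a n h)
      · haveI := DQCoh.isIso_σι_f C a n h
        exact QC.isQCoh_of_iso (asIso ((DQCoh.σι C a).f n)).symm (hq n)
    refine ⟨fun i => QC.isQCoh_of_iso ((DerivedCategory.homologyFunctor X.Modules i).mapIso e)
      (DQPush.isQCohD_Q M (fun n => isQCoh_mappingCone _ hσq hq n) i), ?_⟩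
    have hM : IsAboveD (a + 1) ((DerivedCategory.Q : _ ⥤ DCoh.D X).obj M) :=
      (mIsoD_iff (a + 1) _ (DerivedCategory.mappingCone_triangle_distinguished (DQCoh.σι C a))).1
        (DQCoh.mIsoD_mono (by omega) (DQCoh.mIsoD_σι C a))
    exact (DerivedCategory.isLE_iff _ a).2 fun i hi => DQCoh.isAboveD_of_iso e hM i (by omega)
  have hFj : IsAboveD (q - 1) ((DerivedCategory.Q : _ ⥤ Dual.D A).obj
      (CochainComplex.mappingCone ((gamCx A).map j))) := by
    intro i hi
    refine IsZero.of_iso ?_ ((DerivedCategory.homologyFunctorFactors (ModuleCat.{u} A) i).app _)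
    refine IsZero.of_iso ?_ ((HomologicalComplex.homologyFunctor _ _ i).mapIso
      (CochainComplex.mappingCone.mapHomologicalComplexIso j (gam A))).symm
    exact (HomologicalComplex.exactAt_iff_isZero_homology _ _).1
      (exactAt_gam_of_subsingleton (A := A) _ i (hd _ hcone.1 a hcone.2 i (by omega)))
  -- conclude
  haveI h3 : IsIso (HomologicalComplex.homologyMap ((gamCx A).map j) q) := by
    have h := ((mIsoD_iff (q - 1) _ (DerivedCategory.mappingCone_triangle_distinguished ((gamCx A).map j))).2 hFj).1 q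
      (by omega)
    exact (NatIso.isIso_map_iff (DerivedCategory.homologyFunctorFactors (ModuleCat.{u} A) q) _).1 h
  haveI h4 : IsIso (HomologicalComplex.homologyMap ((gamCx A).map t) q) :=
    (quasiIsoAt_iff_isIso_homologyMap _ _).1 (hFt.quasiIsoAt q)
  haveI h5 : IsIso (HomologicalComplex.homologyMap ((gamCx A).map (DQCoh.σι C a)) q) := by
    haveI := DQCoh.isIso_σι_f C a q (by omega)
    haveI := DQCoh.isIso_σι_f C a (q - 1) (by omega)
    haveI := DQCoh.isIso_σι_f C a (q + 1) (by omega)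
    rw [← quasiIsoAt_iff_isIso_homologyMap, quasiIsoAt_iff' _ (q - 1) q (q + 1) (by simp) (by simp)]
    let φ := (HomologicalComplex.shortComplexFunctor' _ _ (q - 1) q (q + 1)).map ((gamCx A).map (DQCoh.σι C a))
    haveI : Epi φ.τ₁ := inferInstanceAs (Epi ((gam A).map ((DQCoh.σι C a).f (q - 1))))
    haveI : IsIso φ.τ₂ := inferInstanceAs (IsIso ((gam A).map ((DQCoh.σι C a).f q)))
    haveI : Mono φ.τ₃ := inferInstanceAs (Mono ((gam A).map ((DQCoh.σι C a).f (q + 1))))
    exact ShortComplex.quasiIso_of_epi_of_isIso_of_mono φ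
  exact IsIso.of_isIso_fac_left (homologyMap_square (gam A) (Homotopy.equivSubZero.symm H) q).symm

end Groth.Agent.KunnAD
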