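import Groth.Agent.KunnAD.Main
import Groth.Agent.KunnAD.FreeRes

/-!
Complexes computing derived global sections with explicit bounds.
-/

set_option autoImplicit false
set_option backward.isDefEq.respectTransparency false
set_option backward.isDefEq.respectTransparency.types false
set_option linter.style.haveILetI false
set_option linter.unusedSectionVars false
set_option maxHeartbeats 1000000

universe u

open CategoryTheory CategoryTheory.Limits AlgebraicGeometry TopologicalSpace Opposite

attribute [local instance] HasDerivedCategory.standard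

noncomputable section

namespace Groth.Agent.KunnAD

open Groth.Agent.W7Cech (secA secRing)

variable {A : Type u} [CommRing A] {X : Scheme.{u}} [X.Over (Spec (CommRingCat.of A))]

lemma list_cover {N : ℕ} (U : Fin (N + 1) → X.Opens) (hU : ∀ i, IsAffineOpen (U i)) (hcov : ⨆ i, U i = ⊤) :
    (∀ V ∈ List.ofFn U, IsAffineOpen V) ∧ ⨆ j : Fin (List.ofFn U).length, (List.ofFn U)[j] = (⊤ : X.Opens) := by
  refine ⟨fun V hV => ?_, le_antisymm le_top (hcov ▸ iSup_le fun i => ?_)⟩
  · obtain ⟨i, rfl⟩ := List.mem_ofFn.1 hV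
    exact hU i
  · obtain ⟨j, hj, he⟩ := List.getElem_of_mem ((List.mem_ofFn (f := U)).2 ⟨i, rfl⟩)
    exact he ▸ le_iSup (fun k : Fin (List.ofFn U).length => (List.ofFn U)[k]) ⟨j, hj⟩

variable [CompactSpace X] [IsAffineHom (pullback.diagonal (terminal.from X))] [HTor.HasRΓA (X ↘ Spec (CommRingCat.of A))]

/-- derived global sections of a bounded above complex are computed by a complex with the Čech bounds -/
theorem exists_computes {N : ℕ} (U : Fin (N + 1) → X.Opens) (hU : ∀ i, IsAffineOpen (U i)) (hcov : ⨆ i, U i = ⊤)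
    (P : CochainComplex X.Modules ℤ) (hq : ∀ i : ℤ, Coh.IsQCoh (P.X i)) (b : ℤ) (hb : ∀ i, b < i → IsZero (P.X i)) :
    ∃ K : DRing.Cx A, DRing.VanishesAbove K (b + N) ∧
      (∀ a : ℤ, (∀ i, i < a → IsZero (P.X i)) → ∀ i, i < a → IsZero (K.X i)) ∧
      HTor.Computes (X ↘ Spec (CommRingCat.of A)) K (DCoh.toD X P) := by
  obtain ⟨hl, hcov'⟩ := list_cover U hU hcov
  let l := List.ofFn U
  let C := res P l
  have hC : ∀ n, Piece Coh.IsQCoh l (C.X n) := piece_res stable_qcoh P hq l hl
  have hR : (R P l).Acyclic := acyclic_R A stable_qcoh P hq l hl hcov'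
  obtain ⟨e₁⟩ := nonempty_map_res_iso stable_qcoh P hq (𝟭 X.Modules) l hl
    (acyclic_of_iso ((Functor.mapHomologicalComplexIdIso X.Modules (ComplexShape.up ℤ)).app _).symm hR)
  obtain ⟨e⟩ := nonempty_computes (A := A) P C
    (DerivedCategory.Q.mapIso ((Functor.mapHomologicalComplexIdIso X.Modules (ComplexShape.up ℤ)).app P).symm ≪≫ e₁ ≪≫
      DerivedCategory.Q.mapIso ((Functor.mapHomologicalComplexIdIso X.Modules (ComplexShape.up ℤ)).app C))
    (fun n => (hC n).mem stable_qcoh hl) fun n => (hC n).noHigher stable_qcoh hl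
  refine ⟨(secCx A (⊤ : X.Opens)).obj C, fun n hn => (secA A (⊤ : X.Opens)).map_isZero ?_,
    fun a ha n hn => (secA A (⊤ : X.Opens)).map_isZero (isZero_res_low stable_qcoh P hq ha l hl n hn), ⟨e⟩⟩
  refine isZero_res stable_qcoh P hq hb l hl n ?_
  rw [List.length_ofFn]
  push_cast
  omega

end Groth.Agent.KunnAD
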