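import Groth.Agent.KFlat.Tensor
import Groth.Agent.KFlat.MapTens
import Mathlib.Algebra.BigOperators.Group.Finset.Basic
import Mathlib.Data.Int.Interval

/-!
Total complexes of bounded above double complexes: finiteness in every degree, and comparison maps.
-/

set_option autoImplicit false
set_option linter.unusedSectionVars false
set_option linter.style.haveILetI false
set_option backward.isDefEq.respectTransparency false
set_option backward.isDefEq.respectTransparency.types false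

open CategoryTheory Limits HomologicalComplex

namespace Groth.Agent.KunnAD

/-- a finite orthogonal family of retracts summing to the identity -/
theorem prop_of_sum_id {A : Type*} [Category* A] [Preadditive A] [HasZeroObject A] [HasBinaryBiproducts A]
    (Φ : A → Prop) (h0 : ∀ {M : A}, IsZero M → Φ M) (hb : ∀ {M N : A}, Φ M → Φ N → Φ (M ⊞ N))
    (hi : ∀ {M N : A}, (M ≅ N) → Φ M → Φ N) {T : A} {ι : Type*} [DecidableEq ι] (s : Finset ι) (M : ι → A)
    (hM : ∀ p ∈ s, Φ (M p)) (i : ∀ p, M p ⟶ T) (r : ∀ p, T ⟶ M p) (h1 : ∀ p ∈ s, i p ≫ r p = 𝟙 _)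
    (h2 : ∀ p ∈ s, ∀ q ∈ s, p ≠ q → i p ≫ r q = 0) (hsum : ∑ p ∈ s, r p ≫ i p = 𝟙 T) : Φ T := by
  suffices H : ∀ t ⊆ s, ∃ (S : A) (f : S ⟶ T) (g : T ⟶ S), Φ S ∧ f ≫ g = 𝟙 S ∧ g ≫ f = ∑ p ∈ t, r p ≫ i p by
    obtain ⟨S, f, g, hS, hfg, hgf⟩ := H s subset_rfl
    exact hi ⟨f, g, hfg, hgf.trans hsum⟩ hS
  intro t
  induction t using Finset.induction with
  | empty =>
    intro _
    obtain ⟨Z, hZ⟩ := HasZeroObject.zero (C := A)
    exact ⟨Z, 0, 0, h0 hZ, hZ.eq_of_src _ _, by simp⟩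
  | @insert a t ha ih =>
    intro hts
    have has : a ∈ s := hts (Finset.mem_insert_self _ _)
    obtain ⟨S, f, g, hS, hfg, hgf⟩ := ih ((Finset.subset_insert _ _).trans hts)
    have ort1 : i a ≫ g = 0 := by
      rw [← Category.comp_id g, ← hfg, reassoc_of% hgf]
      simp only [Preadditive.comp_sum, Preadditive.sum_comp, Category.assoc]
      refine Finset.sum_eq_zero fun p hp => ?_
      rw [reassoc_of% (h2 a has p (hts (Finset.mem_insert_of_mem hp)) (fun h => ha (h ▸ hp))), zero_comp]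
    have ort2 : f ≫ r a = 0 := by
      rw [← Category.id_comp f, ← hfg, Category.assoc, Category.assoc, reassoc_of% hgf]
      simp only [Preadditive.comp_sum, Preadditive.sum_comp, Category.assoc]
      refine Finset.sum_eq_zero fun p hp => ?_
      rw [h2 p (hts (Finset.mem_insert_of_mem hp)) a has (fun h => ha (h ▸ hp)), comp_zero, comp_zero]
    refine ⟨M a ⊞ S, biprod.desc (i a) f, biprod.lift (r a) g, hb (hM a has) hS, ?_, ?_⟩
    · apply biprod.hom_ext <;> apply biprod.hom_ext' <;> simp [ort1, ort2, hfg, h1 a has]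
    · rw [biprod.lift_desc, hgf, Finset.sum_insert ha]

section Finite

variable {A₁ A₂ A : Type*} [Category* A₁] [Category* A₂] [Category* A] [Abelian A₁] [Abelian A₂] [Abelian A]
  (B : A₁ ⥤ A₂ ⥤ A) [B.Additive] [∀ X, (B.obj X).Additive]
  (L : CochainComplex A₁ ℤ) (K : CochainComplex A₂ ℤ) [HomologicalComplex.HasMapBifunctor L K B (ComplexShape.up ℤ)]

/-- the projection to a summand -/
noncomputable def proj (n p : ℤ) :
    (HomologicalComplex.mapBifunctor L K B (ComplexShape.up ℤ)).X n ⟶ (B.obj (L.X p)).obj (K.X (n - p)) :=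
  mapBifunctorDesc fun p' q' h =>
    if e : p' = p then eqToHom (by
      have h' : p' + q' = n := h
      obtain rfl := e
      rw [show q' = n - p' by omega]) else 0

/-- the inclusion of a summand -/
noncomputable abbrev inj (n p : ℤ) :
    (B.obj (L.X p)).obj (K.X (n - p)) ⟶ (HomologicalComplex.mapBifunctor L K B (ComplexShape.up ℤ)).X n :=
  ιMapBifunctor L K B (ComplexShape.up ℤ) p (n - p) n (show p + (n - p) = n by omega)

lemma inj_proj (n p : ℤ) : inj B L K n p ≫ proj B L K n p = 𝟙 _ := by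
  simp [proj, inj]

lemma inj_proj_ne {n p q : ℤ} (h : p ≠ q) : inj B L K n p ≫ proj B L K n q = 0 := by
  simp [proj, inj, h]

variable {L K}

lemma sum_proj_inj {a b : ℤ} (ha : ∀ p, a < p → IsZero (L.X p)) (hb : ∀ q, b < q → IsZero (K.X q)) (n : ℤ) :
    ∑ p ∈ Finset.Icc (n - b) a, proj B L K n p ≫ inj B L K n p = 𝟙 _ := by
  refine mapBifunctor.hom_ext fun p q h => ?_
  obtain rfl : q = n - p := by have : p + q = n := h; omega
  rw [Preadditive.comp_sum, Category.comp_id]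
  by_cases hp : p ∈ Finset.Icc (n - b) a
  · rw [Finset.sum_eq_single_of_mem p hp fun q _ hqp => by rw [reassoc_of% (inj_proj_ne B L K (Ne.symm hqp)), zero_comp],
      reassoc_of% (inj_proj B L K n p)]
  · have hz : IsZero ((B.obj (L.X p)).obj (K.X (n - p))) := by
      rw [Finset.mem_Icc, not_and_or] at hp
      rcases hp with hp | hp
      · exact (B.obj (L.X p)).map_isZero (hb _ (by omega))
      · exact ((B.map_isZero (ha p (by omega))).obj _)
    exact hz.eq_of_src _ _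

/-- the terms of the total complex are finite sums -/
theorem prop_total (Φ : A → Prop) (h0 : ∀ {M : A}, IsZero M → Φ M) (hΦb : ∀ {M N : A}, Φ M → Φ N → Φ (M ⊞ N))
    (hi : ∀ {M N : A}, (M ≅ N) → Φ M → Φ N) {a b : ℤ} (ha : ∀ p, a < p → IsZero (L.X p))
    (hb : ∀ q, b < q → IsZero (K.X q)) (hT : ∀ p q, Φ ((B.obj (L.X p)).obj (K.X q))) (n : ℤ) :
    Φ ((HomologicalComplex.mapBifunctor L K B (ComplexShape.up ℤ)).X n) :=
  prop_of_sum_id Φ h0 hΦb hi (Finset.Icc (n - b) a) (fun p => (B.obj (L.X p)).obj (K.X (n - p))) (fun p _ => hT _ _)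
    (inj B L K n) (proj B L K n) (fun p _ => inj_proj B L K n p) (fun _ _ _ _ h => inj_proj_ne B L K h)
    (sum_proj_inj B ha hb n)

/-- vanishing of the total complex -/
theorem isZero_total {a b : ℤ} (ha : ∀ p, a < p → IsZero (L.X p))
    (hb : ∀ q, b < q → IsZero (K.X q)) (n : ℤ) (hn : a + b < n) :
    IsZero ((HomologicalComplex.mapBifunctor L K B (ComplexShape.up ℤ)).X n) := by
  rw [IsZero.iff_id_eq_zero, ← sum_proj_inj B ha hb n, Finset.Icc_eq_empty (by omega), Finset.sum_empty]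

end Finite

section Compare

variable {C₁ C₂ A₁ A₂ A A₁' A₂' A' : Type*} [Category* C₁] [Category* C₂] [Category* A₁] [Category* A₂]
  [Category* A] [Category* A₁'] [Category* A₂'] [Category* A'] [Abelian C₁] [Abelian C₂] [Abelian A₁]
  [Abelian A₂] [Abelian A] [Abelian A₁'] [Abelian A₂'] [Abelian A']
  (F₁ : C₁ ⥤ A₁') [F₁.Additive] (F₂ : C₂ ⥤ A₂') [F₂.Additive]
  (H₁ : C₁ ⥤ A₁) [H₁.Additive] (H₂ : C₂ ⥤ A₂) [H₂.Additive]
  (G : A ⥤ A') [G.Additive]
  (B : A₁ ⥤ A₂ ⥤ A) [B.Additive] [∀ X, (B.obj X).Additive]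
  (B' : A₁' ⥤ A₂' ⥤ A') [B'.Additive] [∀ X, (B'.obj X).Additive]
  [∀ (K : CochainComplex A₁ ℤ) (L : CochainComplex A₂ ℤ),
    HomologicalComplex.HasMapBifunctor K L B (ComplexShape.up ℤ)]
  [∀ (K : CochainComplex A₁' ℤ) (L : CochainComplex A₂' ℤ),
    HomologicalComplex.HasMapBifunctor K L B' (ComplexShape.up ℤ)]
  (α : ∀ M N, (B'.obj (F₁.obj M)).obj (F₂.obj N) ⟶ G.obj ((B.obj (H₁.obj M)).obj (H₂.obj N)))
  (h₁ : ∀ {M M' : C₁} (f : M ⟶ M') (N : C₂),
    (B'.map (F₁.map f)).app (F₂.obj N) ≫ α M' N = α M N ≫ G.map ((B.map (H₁.map f)).app (H₂.obj N)))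
  (h₂ : ∀ (M : C₁) {N N' : C₂} (g : N ⟶ N'),
    (B'.obj (F₁.obj M)).map (F₂.map g) ≫ α M N' = α M N ≫ G.map ((B.obj (H₁.obj M)).map (H₂.map g)))

variable (L : CochainComplex C₁ ℤ) (K : CochainComplex C₂ ℤ)

/-- the target complex -/
noncomputable abbrev S₀ := HomologicalComplex.mapBifunctor ((H₁.mapHomologicalComplex (ComplexShape.up ℤ)).obj L)
  ((H₂.mapHomologicalComplex (ComplexShape.up ℤ)).obj K) B (ComplexShape.up ℤ)

/-- the source complex -/
noncomputable abbrev S₁ := HomologicalComplex.mapBifunctor ((F₁.mapHomologicalComplex (ComplexShape.up ℤ)).obj L)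
  ((F₂.mapHomologicalComplex (ComplexShape.up ℤ)).obj K) B' (ComplexShape.up ℤ)

/-- the degreewise comparison -/
noncomputable def totX (n : ℤ) : (S₁ F₁ F₂ B' L K).X n ⟶ G.obj ((S₀ H₁ H₂ B L K).X n) :=
  mapBifunctorDesc fun p q h => α (L.X p) (K.X q) ≫ G.map (ιMapBifunctor ((H₁.mapHomologicalComplex (ComplexShape.up ℤ)).obj L)
    ((H₂.mapHomologicalComplex (ComplexShape.up ℤ)).obj K) B (ComplexShape.up ℤ) p q n h)

@[reassoc]
lemma ι_totX (n p q : ℤ) (h : p + q = n) :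
    ιMapBifunctor ((F₁.mapHomologicalComplex (ComplexShape.up ℤ)).obj L) ((F₂.mapHomologicalComplex (ComplexShape.up ℤ)).obj K) B'
        (ComplexShape.up ℤ) p q n h ≫ totX F₁ F₂ H₁ H₂ G B B' α L K n =
      α (L.X p) (K.X q) ≫ G.map (ιMapBifunctor ((H₁.mapHomologicalComplex (ComplexShape.up ℤ)).obj L)
        ((H₂.mapHomologicalComplex (ComplexShape.up ℤ)).obj K) B (ComplexShape.up ℤ) p q n h) :=
  ι_mapBifunctorDesc _ p q h

include h₁ h₂ in
/-- the comparison -/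
lemma totX_comm (n n' : ℤ) (hn : n + 1 = n') :
    totX F₁ F₂ H₁ H₂ G B B' α L K n ≫ G.map ((S₀ H₁ H₂ B L K).d n n') = (S₁ F₁ F₂ B' L K).d n n' ≫ totX F₁ F₂ H₁ H₂ G B B' α L K n' := by
  subst hn
  refine mapBifunctor.hom_ext fun p q h => ?_
  have h' : p + q = n := h
  have e₁ : p + 1 + q = n + 1 := by omega
  have e₂ : p + (q + 1) = n + 1 := by omega
  rw [ι_totX_assoc F₁ F₂ H₁ H₂ G B B' α L K n p q h', ← G.map_comp,
    mapBifunctor.d_eq, Preadditive.comp_add, mapBifunctor.ι_D₁, mapBifunctor.ι_D₂,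
    mapBifunctor.d₁_eq _ _ _ _ (show (ComplexShape.up ℤ).Rel p (p + 1) from rfl) q (n + 1) e₁,
    mapBifunctor.d₂_eq _ _ _ _ p (show (ComplexShape.up ℤ).Rel q (q + 1) from rfl) (n + 1) e₂,
    mapBifunctor.d_eq, Preadditive.add_comp, Preadditive.comp_add, mapBifunctor.ι_D₁_assoc,
    mapBifunctor.ι_D₂_assoc,
    mapBifunctor.d₁_eq _ _ _ _ (show (ComplexShape.up ℤ).Rel p (p + 1) from rfl) q (n + 1) e₁,
    mapBifunctor.d₂_eq _ _ _ _ p (show (ComplexShape.up ℤ).Rel q (q + 1) from rfl) (n + 1) e₂]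
  simp only [G.map_add, Preadditive.comp_add, Units.smul_def, G.map_zsmul, Preadditive.comp_zsmul,
    Preadditive.zsmul_comp, Category.assoc, G.map_comp]
  congr 2
  · erw [ι_totX F₁ F₂ H₁ H₂ G B B' α L K (n + 1) (p + 1) q e₁, reassoc_of% (h₁ (L.d p (p + 1)) (K.X q))]
    rfl
  · erw [ι_totX F₁ F₂ H₁ H₂ G B B' α L K (n + 1) p (q + 1) e₂, reassoc_of% (h₂ (L.X p) (K.d q (q + 1)))]
    rfl

/-- on bounded above complexes it is an isomorphism as soon as the pairings are -/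
theorem isIso_totX {a b : ℤ} (ha : ∀ p, a < p → IsZero (L.X p)) (hb : ∀ q, b < q → IsZero (K.X q))
    (hα : ∀ p q, IsIso (α (L.X p) (K.X q))) (n : ℤ) : IsIso (totX F₁ F₂ H₁ H₂ G B B' α L K n) := by
  let L₀ := (H₁.mapHomologicalComplex (ComplexShape.up ℤ)).obj L
  let K₀ := (H₂.mapHomologicalComplex (ComplexShape.up ℤ)).obj K
  let L₁ := (F₁.mapHomologicalComplex (ComplexShape.up ℤ)).obj L
  let K₁ := (F₂.mapHomologicalComplex (ComplexShape.up ℤ)).obj K
  have ha₀ : ∀ p, a < p → IsZero (L₀.X p) := fun p hp => H₁.map_isZero (ha p hp)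
  have hb₀ : ∀ q, b < q → IsZero (K₀.X q) := fun q hq => H₂.map_isZero (hb q hq)
  have ha₁ : ∀ p, a < p → IsZero (L₁.X p) := fun p hp => F₁.map_isZero (ha p hp)
  have hb₁ : ∀ q, b < q → IsZero (K₁.X q) := fun q hq => F₂.map_isZero (hb q hq)
  haveI := hα
  refine ⟨∑ p ∈ Finset.Icc (n - b) a,
    G.map (proj B L₀ K₀ n p) ≫ inv (α (L.X p) (K.X (n - p))) ≫ inj B' L₁ K₁ n p, ?_, ?_⟩
  · rw [← Category.comp_id (totX _ _ _ _ _ _ _ _ _ _ _ ≫ _), ← sum_proj_inj B' ha₁ hb₁ n]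
    refine mapBifunctor.hom_ext fun p q h => ?_
    obtain rfl : q = n - p := by have : p + q = n := h; omega
    rw [sum_proj_inj B' ha₁ hb₁ n, Category.comp_id, Preadditive.comp_sum, Preadditive.comp_sum, Category.comp_id]
    by_cases hp : p ∈ Finset.Icc (n - b) a
    · rw [Finset.sum_eq_single_of_mem p hp fun q _ hqp => by
        erw [ι_totX_assoc F₁ F₂ H₁ H₂ G B B' α L K n p (n - p) (by omega), ← G.map_comp_assoc]
        erw [inj_proj_ne B L₀ K₀ (Ne.symm hqp)]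
        rw [G.map_zero, zero_comp, comp_zero]]
      erw [ι_totX_assoc F₁ F₂ H₁ H₂ G B B' α L K n p (n - p) (by omega), ← G.map_comp_assoc]
      erw [inj_proj B L₀ K₀ n p]
      erw [G.map_id, Category.id_comp, IsIso.hom_inv_id_assoc]
    · have hz : IsZero ((B'.obj (L₁.X p)).obj (K₁.X (n - p))) := by
        rw [Finset.mem_Icc, not_and_or] at hp
        rcases hp with hp | hp
        · exact (B'.obj (L₁.X p)).map_isZero (hb₁ _ (by omega))
        · exact ((B'.map_isZero (ha₁ p (by omega))).obj _)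
      exact hz.eq_of_src _ _
  · rw [← G.map_id, ← sum_proj_inj B ha₀ hb₀ n, G.map_sum, Preadditive.sum_comp]
    refine Finset.sum_congr rfl fun p _ => ?_
    rw [Category.assoc, Category.assoc]
    erw [ι_totX F₁ F₂ H₁ H₂ G B B' α L K n p (n - p) (by omega)]
    rw [IsIso.inv_hom_id_assoc, ← G.map_comp]

include h₁ h₂ in
/-- the comparison isomorphism -/
theorem nonempty_totIso {a b : ℤ} (ha : ∀ p, a < p → IsZero (L.X p)) (hb : ∀ q, b < q → IsZero (K.X q))
    (hα : ∀ p q, IsIso (α (L.X p) (K.X q))) :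
    Nonempty (S₁ F₁ F₂ B' L K ≅ (G.mapHomologicalComplex (ComplexShape.up ℤ)).obj (S₀ H₁ H₂ B L K)) :=
  ⟨HomologicalComplex.Hom.isoOfComponents
    (fun n => @asIso _ _ _ _ (totX F₁ F₂ H₁ H₂ G B B' α L K n) (isIso_totX F₁ F₂ H₁ H₂ G B B' α L K ha hb hα n))
    fun i j h => totX_comm F₁ F₂ H₁ H₂ G B B' α h₁ h₂ L K i j h⟩

end Compare

end Groth.Agent.KunnAD
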