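import Groth.Agent.KunnAD.Main
import Groth.Agent.KunnAD.TotalMap
import Groth.Agent.KunnAD.TensorA
import Groth.Agent.DRingKP.KFlat
import Mathlib.Algebra.Homology.BifunctorShift

/-!
`RΓ(X, P ⊗_A Q) = RΓ(X, P) ⊗_A Q` for flat quasi-coherent complexes.
-/

set_option autoImplicit false
set_option backward.isDefEq.respectTransparency false
set_option backward.isDefEq.respectTransparency.types false
set_option linter.style.haveILetI false
set_option linter.unusedSectionVars false
set_option maxHeartbeats 1000000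

universe u

open CategoryTheory CategoryTheory.Limits AlgebraicGeometry TopologicalSpace Opposite MonoidalCategory

attribute [local instance] HasDerivedCategory.standard

noncomputable section

namespace Groth.Agent.KunnAD

open Groth.Agent.W7Cech (secA secRing)
open Groth.Agent.DRingKP (tB)

variable {A : Type u} [CommRing A]

lemma rflat_of_flat {K : DRing.Cx A} {b : ℤ} (hb : ∀ n, b < n → IsZero (K.X n)) (hK : ∀ n, Module.Flat A (K.X n)) :
    KFlat.RFlat (tB A) K :=
  (DRingKP.rflat_iff K).2 (DRingKP.isKFlat_of_bounded hb hK)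

lemma hres (F : DRing.Cx A) : ∃ (F' : DRing.Cx A) (q : F' ⟶ F), KFlat.RFlat (tB A) F' ∧ QuasiIso q := by
  obtain ⟨K, q, h1, -, h3, -⟩ := DRingKP.exists_kFlat_resolution F
  exact ⟨K, q, (DRingKP.rflat_iff K).2 h1, h3⟩

/-- bounded above acyclic flat complexes stay acyclic after any tensor product -/
lemma acyclic_tens_of_flat {K : DRing.Cx A} (h : K.Acyclic) {b : ℤ} (hb : ∀ n, b < n → IsZero (K.X n))
    (hK : ∀ n, Module.Flat A (K.X n)) (Q : DRing.Cx A) : (((KFlat.tens (tB A)).obj K).obj Q).Acyclic :=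
  KFlat.acyclic_of_iso (KFlat.swapIso (DRingKP.tBraid A) Q K)
    (KFlat.acyclic_tens_of_acyclic_rflat (DRingKP.tBraid A) hres (rflat_of_flat hb hK) h Q)

/-- quasi-isomorphisms of bounded above flat complexes stay so after any tensor product -/
lemma quasiIso_tens_of_flat {K L : DRing.Cx A} (f : K ⟶ L) [QuasiIso f] {b : ℤ}
    (bK : ∀ n, b < n → IsZero (K.X n)) (bL : ∀ n, b < n → IsZero (L.X n))
    (hK : ∀ n, Module.Flat A (K.X n)) (hL : ∀ n, Module.Flat A (L.X n)) (Q : DRing.Cx A) :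
    QuasiIso (((KFlat.tens (tB A)).map f).app Q) := by
  have h := KFlat.rflat_mappingCone f (rflat_of_flat bK hK) (rflat_of_flat bL hL)
  exact KFlat.quasiIso_map_app_of_acyclic f Q (KFlat.acyclic_of_iso (KFlat.swapIso (DRingKP.tBraid A) Q _)
    (KFlat.acyclic_tens_of_acyclic_rflat (DRingKP.tBraid A) hres h (KFlat.mappingCone_acyclic f) Q))

variable {X : Scheme.{u}} [X.Over (Spec (CommRingCat.of A))]

/-- `M ↦ M ⊗_A Q` on complexes -/
abbrev tensQ (Q : DRing.Cx A) : CochainComplex X.Modules ℤ ⥤ CochainComplex X.Modules ℤ :=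
  (KFlat.tens (KFlat.schB X)).flip.obj ((HTor.ofModuleCx (X ↘ Spec (CommRingCat.of A))).obj Q)

lemma isZero_ofModuleCx {Q : DRing.Cx A} {c : ℤ} (hc : ∀ n, c < n → IsZero (Q.X n)) (n : ℤ) (hn : c < n) :
    IsZero (((HTor.ofModuleCx (X ↘ Spec (CommRingCat.of A))).obj Q).X n) :=
  (ofMod A X).map_isZero (hc n hn)

/-- the terms of `M ⊗_A Q` -/
lemma prop_tensQ (Φ : X.Modules → Prop) (h0 : ∀ {M : X.Modules}, IsZero M → Φ M)
    (hΦb : ∀ {M N : X.Modules}, Φ M → Φ N → Φ (M ⊞ N))
    (hi : ∀ {M N : X.Modules}, (M ≅ N) → Φ M → Φ N) (M : CochainComplex X.Modules ℤ) {Q : DRing.Cx A} {a c : ℤ}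
    (ha : ∀ n, a < n → IsZero (M.X n)) (hc : ∀ n, c < n → IsZero (Q.X n))
    (hT : ∀ p q, Φ ((tensN (Q.X q)).obj (M.X p))) (n : ℤ) : Φ (((tensQ Q).obj M).X n) :=
  prop_total (KFlat.schB X) Φ h0 hΦb hi ha (isZero_ofModuleCx hc) hT n

/-- sections of `M ⊗_A Q` -/
lemma nonempty_secTensQ (V : X.Opens) (M : CochainComplex X.Modules ℤ) {Q : DRing.Cx A} {a c : ℤ}
    (ha : ∀ n, a < n → IsZero (M.X n)) (hc : ∀ n, c < n → IsZero (Q.X n))
    (hα : ∀ p q, IsIso (pairA V (M.X p) (Q.X q))) :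
    Nonempty (((KFlat.tens (tB A)).obj ((secCx A V).obj M)).obj Q ≅ (secCx A V).obj ((tensQ Q).obj M)) :=
  nonempty_totIso (secA A V) (𝟭 (ModuleCat.{u} A)) (𝟭 X.Modules) (ofMod A X) (secA A V) (KFlat.schB X) (tB A)
    (fun M N => pairA V M N) (fun f N => pairA_natural₁ V f N) (fun M _ _ g => pairA_natural₂ V M g) M Q ha hc hα

variable [CompactSpace X] [IsAffineHom (pullback.diagonal (terminal.from X))] [HTor.HasRΓA (X ↘ Spec (CommRingCat.of A))]

/-- **derived global sections of `P ⊗_A Q`** -/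
theorem computes_tensorA (P : CochainComplex X.Modules ℤ) (hq : ∀ i : ℤ, Coh.IsQCoh (P.X i))
    (bP : ∃ b : ℤ, ∀ i : ℤ, b < i → IsZero (P.X i))
    (hfl : ∀ i : ℤ, FlatMod.IsFlatOver (X ↘ Spec (CommRingCat.of A)) (P.X i))
    (L : DRing.Cx A) (hL : ∀ i : ℤ, Projective (L.X i)) (c : ∃ c : ℤ, DRing.VanishesAbove L c)
    (e : HTor.Computes (X ↘ Spec (CommRingCat.of A)) L (DCoh.toD X P)) (Q : DRing.Cx A)
    (bQ : ∃ b : ℤ, DRing.VanishesAbove Q b) :
    HTor.Computes (X ↘ Spec (CommRingCat.of A)) (HTor.tensorCx L Q)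
      (DCoh.toD X (HTor.tensorACx (X ↘ Spec (CommRingCat.of A)) P Q)) := by
  obtain ⟨b, hb⟩ := bP
  obtain ⟨c, hc⟩ := c
  obtain ⟨bq, hbq⟩ := bQ
  obtain ⟨e⟩ := e
  obtain ⟨l, hl, hcov⟩ := exists_affine_list X
  have hP : ∀ n, FlatSec (A := A) (P.X n) := fun n => flatSec_of_isFlatOver _ (hq n) (hfl n)
  let C := res P l
  have hC : ∀ n, Piece (FlatSec (A := A)) l (C.X n) := piece_res stable_flatSec P hP l hl
  let d := max c (b + l.length)
  have hCb : ∀ n, d < n → IsZero (C.X n) := fun n hn => isZero_res stable_flatSec P hP hb l hl n (by omega)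
  have hR := acyclic_R A stable_flatSec P hP l hl hcov
  have hR1 : (((𝟭 X.Modules).mapHomologicalComplex (ComplexShape.up ℤ)).obj (R P l)).Acyclic :=
    acyclic_of_iso ((Functor.mapHomologicalComplexIdIso X.Modules (ComplexShape.up ℤ)).app _).symm hR
  obtain ⟨e₁⟩ := nonempty_map_res_iso stable_flatSec P hP (𝟭 X.Modules) l hl hR1
  obtain ⟨eC⟩ := nonempty_computes (A := A) P C
    (DerivedCategory.Q.mapIso ((Functor.mapHomologicalComplexIdIso X.Modules (ComplexShape.up ℤ)).app P).symm ≪≫ e₁ ≪≫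
      DerivedCategory.Q.mapIso ((Functor.mapHomologicalComplexIdIso X.Modules (ComplexShape.up ℤ)).app C))
    (fun n => ((hC n).mem stable_flatSec hl).qcoh) fun n => (hC n).noHigher stable_flatSec hl
  haveI : L.IsKProjective := DRingKP.isKProjective_of_vanishesAbove hc hL
  obtain ⟨f, hf⟩ := PerfLocal.exists_lift (e ≪≫ eC.symm).hom
  haveI : QuasiIso f := by
    rw [← DerivedCategory.isIso_Q_map_iff_quasiIso, hf]
    exact inferInstanceAs (IsIso (e ≪≫ eC.symm).hom)
  haveI hfQ : QuasiIso (((KFlat.tens (tB A)).map f).app Q) :=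
    quasiIso_tens_of_flat f (b := d) (fun n hn => hc n (by omega))
      (fun n hn => (secA A (⊤ : X.Opens)).map_isZero (hCb n hn))
      (fun n => by
        haveI : Module.Projective A (L.X n) := (IsProjective.iff_projective (L.X n)).2 (hL n)
        infer_instance)
      (fun n => (hC n).flat_top hl) Q
  -- the resolution stays a resolution
  have hRb := isZero_R P hb l
  have hTR : ((tensQ Q).obj (R P l)).Acyclic := by
    refine acyclic_of_cover (A := A) (fun n => prop_tensQ Coh.IsQCoh DQCoh.isQCoh_of_isZero RPushQC.isQCoh_biprod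
      QC.isQCoh_of_iso (R P l) (a := b + l.length) (c := bq) hRb hbq
      (fun p q => isQCoh_tensN ((exists_splitting stable_flatSec P hP l hl p).2).qcoh _) n)
      (fun j : Fin l.length => l[j]) (fun j => hl _ (List.getElem_mem _)) hcov fun j => ?_
    have hV : IsAffineOpen l[j] := hl _ (List.getElem_mem _)
    obtain ⟨ε⟩ := nonempty_secTensQ l[j] (R P l) (a := b + l.length) (c := bq) hRb hbq
      fun p q => isIso_pairA hV ((exists_splitting stable_flatSec P hP l hl p).2).qcoh _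
    exact acyclic_of_iso ε (acyclic_tens_of_flat
      (acyclic_secCx (fun n => ((exists_splitting stable_flatSec P hP l hl n).2).qcoh) hR hV)
      (fun n hn => (secA A l[j]).map_isZero (hRb n hn))
      (fun n => ((exists_splitting stable_flatSec P hP l hl n).2).flat _ hV) Q)
  have hS : ((sequence P l).map (tensQ Q)).ShortExact :=
    KFlat.shortExact_of_splitting fun n => KFlat.splittingFlip (KFlat.schB X) _ (sequence P l)
      (fun m => (exists_sequence_splitting stable_flatSec P hP l hl m).1.some) n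
  obtain ⟨e₂⟩ := nonempty_Q_iso_shift hS hTR
  obtain ⟨eC'⟩ := nonempty_computes (A := A) ((tensQ Q).obj P) ((tensQ Q).obj C)
    (e₂ ≪≫ DerivedCategory.Q.mapIso
      (CochainComplex.mapBifunctorShift₁Iso (kernel (π P l)) ((HTor.ofModuleCx (X ↘ Spec (CommRingCat.of A))).obj Q)
        (KFlat.schB X) 1).symm)
    (fun n => prop_tensQ Coh.IsQCoh DQCoh.isQCoh_of_isZero RPushQC.isQCoh_biprod QC.isQCoh_of_iso C hCb hbq
      (fun p q => isQCoh_tensN ((hC p).mem stable_flatSec hl).qcoh _) n)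
    fun n => prop_tensQ NoHigher noHigher_of_isZero noHigher_biprod noHigher_of_iso C hCb hbq
      (fun p q => (hC p).noHigher_tensN stable_flatSec hl _) n
  obtain ⟨εC⟩ := nonempty_secTensQ (⊤ : X.Opens) C hCb hbq fun p q => (hC p).isIso_pairA_top stable_flatSec hl _
  haveI : IsIso ((DerivedCategory.Q : _ ⥤ Dual.D A).map (((KFlat.tens (tB A)).map f).app Q)) :=
    (DerivedCategory.isIso_Q_map_iff_quasiIso _ _).2 hfQ
  exact ⟨asIso ((DerivedCategory.Q : _ ⥤ Dual.D A).map (((KFlat.tens (tB A)).map f).app Q)) ≪≫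
    DerivedCategory.Q.mapIso εC ≪≫ eC'⟩

end Groth.Agent.KunnAD
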