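import Groth.Agent.KunnAD.ExtPieces
import Groth.Agent.KunnAD.TensorMain

/-!
Künneth formula over an affine base in derived form.
-/

set_option autoImplicit false
set_option backward.isDefEq.respectTransparency false
set_option backward.isDefEq.respectTransparency.types false
set_option linter.style.haveILetI false
set_option linter.unusedSectionVars false
set_option maxHeartbeats 2000000

universe u

open CategoryTheory CategoryTheory.Limits AlgebraicGeometry TopologicalSpace Opposite MonoidalCategory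

attribute [local instance] HasDerivedCategory.standard

noncomputable section

namespace Groth.Agent.KunnAD

open Groth.Agent.W7Cech (secA secRing)
open Groth.Agent.DRingKP (tB)

variable {A : Type u} [CommRing A] {X₁ X₂ Z : Scheme.{u}} [X₁.Over (Spec (CommRingCat.of A))]
  [X₂.Over (Spec (CommRingCat.of A))] [Z.Over (Spec (CommRingCat.of A))] (p : Z ⟶ X₁) (q : Z ⟶ X₂)
  (hp : p ≫ (X₁ ↘ Spec (CommRingCat.of A)) = Z ↘ Spec (CommRingCat.of A))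
  (hq : q ≫ (X₂ ↘ Spec (CommRingCat.of A)) = Z ↘ Spec (CommRingCat.of A))
  (sq : IsPullback p q (X₁ ↘ Spec (CommRingCat.of A)) (X₂ ↘ Spec (CommRingCat.of A)))

instance additive_pullbackCx {X Y : Scheme.{u}} (f : X ⟶ Y) : (Scheme.Modules.pullback f).Additive :=
  (Scheme.Modules.pullbackPushforwardAdjunction f).left_adjoint_additive

/-- `p^* M ⊗ q^* N` on complexes -/
abbrev extCx (M : CochainComplex X₁.Modules ℤ) (N : CochainComplex X₂.Modules ℤ) : CochainComplex Z.Modules ℤ :=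
  ((KFlat.tens (KFlat.schB Z)).obj ((HTor.pullCx p).obj M)).obj ((HTor.pullCx q).obj N)

lemma prop_extCx (Φ : Z.Modules → Prop) (h0 : ∀ {M : Z.Modules}, IsZero M → Φ M)
    (hΦb : ∀ {M N : Z.Modules}, Φ M → Φ N → Φ (M ⊞ N))
    (hi : ∀ {M N : Z.Modules}, (M ≅ N) → Φ M → Φ N) (M : CochainComplex X₁.Modules ℤ)
    (N : CochainComplex X₂.Modules ℤ) {a b : ℤ}
    (ha : ∀ n, a < n → IsZero (M.X n)) (hb : ∀ n, b < n → IsZero (N.X n))
    (hT : ∀ i j, Φ (ext₂ p q (M.X i) (N.X j))) (n : ℤ) : Φ ((extCx p q M N).X n) :=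
  prop_total (L := (HTor.pullCx p).obj M) (K := (HTor.pullCx q).obj N) (a := a) (b := b) (KFlat.schB Z) Φ h0 hΦb hi
    (fun i h => (Scheme.Modules.pullback p).map_isZero (ha i h))
    (fun j h => (Scheme.Modules.pullback q).map_isZero (hb j h)) hT n

include hp hq in
lemma nonempty_secExt {V₁ : X₁.Opens} {V₂ : X₂.Opens} {W : Z.Opens} (e₁ : W ≤ p ⁻¹ᵁ V₁) (e₂ : W ≤ q ⁻¹ᵁ V₂)
    (M : CochainComplex X₁.Modules ℤ) (N : CochainComplex X₂.Modules ℤ) {a b : ℤ}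
    (ha : ∀ n, a < n → IsZero (M.X n)) (hb : ∀ n, b < n → IsZero (N.X n))
    (hα : ∀ i j, IsIso (pairE p q hp hq e₁ e₂ (M.X i) (N.X j))) :
    Nonempty (((KFlat.tens (tB A)).obj ((secCx A V₁).obj M)).obj ((secCx A V₂).obj N) ≅
      (secCx A W).obj (extCx p q M N)) :=
  nonempty_totIso (secA A V₁) (secA A V₂) (Scheme.Modules.pullback p) (Scheme.Modules.pullback q) (secA A W)
    (KFlat.schB Z) (tB A) (fun M N => pairE p q hp hq e₁ e₂ M N) (fun f N => pairE_natural₁ p q hp hq e₁ e₂ f N)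
    (fun M _ _ g => pairE_natural₂ p q hp hq e₁ e₂ M g) M N ha hb hα

include sq in
lemma iSup_prod (l₁ : List X₁.Opens) (l₂ : List X₂.Opens) (h₁ : ⨆ j : Fin l₁.length, l₁[j] = ⊤)
    (h₂ : ⨆ j : Fin l₂.length, l₂[j] = ⊤) :
    ⨆ j : Fin l₁.length × Fin l₂.length, p ⁻¹ᵁ l₁[j.1] ⊓ q ⁻¹ᵁ l₂[j.2] = (⊤ : Z.Opens) := by
  refine le_antisymm le_top fun x _ => ?_
  obtain ⟨i, hi⟩ := TopologicalSpace.Opens.mem_iSup.1 (show p x ∈ ⨆ j : Fin l₁.length, l₁[j] by rw [h₁]; trivial)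
  obtain ⟨j, hj⟩ := TopologicalSpace.Opens.mem_iSup.1 (show q x ∈ ⨆ j : Fin l₂.length, l₂[j] by rw [h₂]; trivial)
  exact TopologicalSpace.Opens.mem_iSup.2 ⟨(i, j), ⟨hi, hj⟩⟩

variable [CompactSpace X₁] [IsAffineHom (pullback.diagonal (terminal.from X₁))] [CompactSpace X₂] [IsAffineHom (pullback.diagonal (terminal.from X₂))] [CompactSpace Z] [IsAffineHom (pullback.diagonal (terminal.from Z))]
  [HTor.HasRΓA (X₁ ↘ Spec (CommRingCat.of A))] [HTor.HasRΓA (X₂ ↘ Spec (CommRingCat.of A))]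
  [HTor.HasRΓA (Z ↘ Spec (CommRingCat.of A))]

include hp hq sq in
/-- **Künneth formula over an affine base** -/
theorem computes_ext (P₁ : CochainComplex X₁.Modules ℤ) (P₂ : CochainComplex X₂.Modules ℤ)
    (hq₁ : ∀ i : ℤ, Coh.IsQCoh (P₁.X i)) (hq₂ : ∀ i : ℤ, Coh.IsQCoh (P₂.X i))
    (b₁ : ∃ b : ℤ, ∀ i : ℤ, b < i → IsZero (P₁.X i)) (b₂ : ∃ b : ℤ, ∀ i : ℤ, b < i → IsZero (P₂.X i))
    (hfl : ∀ i : ℤ, FlatMod.IsFlatOver (X₁ ↘ Spec (CommRingCat.of A)) (P₁.X i))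
    (L₁ L₂ : DRing.Cx A) (hL₁ : ∀ i : ℤ, Projective (L₁.X i)) (hL₂ : ∀ i : ℤ, Projective (L₂.X i))
    (c₁ : ∃ c : ℤ, DRing.VanishesAbove L₁ c) (c₂ : ∃ c : ℤ, DRing.VanishesAbove L₂ c)
    (e₁ : HTor.Computes (X₁ ↘ Spec (CommRingCat.of A)) L₁ (DCoh.toD X₁ P₁))
    (e₂ : HTor.Computes (X₂ ↘ Spec (CommRingCat.of A)) L₂ (DCoh.toD X₂ P₂)) :
    HTor.Computes (Z ↘ Spec (CommRingCat.of A)) (HTor.tensorCx L₁ L₂) (DCoh.toD Z (extCx p q P₁ P₂)) := by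
  obtain ⟨b₁, hb₁⟩ := b₁
  obtain ⟨b₂, hb₂⟩ := b₂
  obtain ⟨c₁, hc₁⟩ := c₁
  obtain ⟨c₂, hc₂⟩ := c₂
  obtain ⟨e₁⟩ := e₁
  obtain ⟨e₂⟩ := e₂
  obtain ⟨l₁, hl₁, hcov₁⟩ := exists_affine_list X₁
  obtain ⟨l₂, hl₂, hcov₂⟩ := exists_affine_list X₂
  have hP : ∀ n, FlatSec (A := A) (P₁.X n) := fun n => flatSec_of_isFlatOver _ (hq₁ n) (hfl n)
  let C₁ := res P₁ l₁
  let C₂ := res P₂ l₂
  have hC₁ : ∀ n, Piece (FlatSec (A := A)) l₁ (C₁.X n) := piece_res stable_flatSec P₁ hP l₁ hl₁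
  have hC₂ : ∀ n, Piece Coh.IsQCoh l₂ (C₂.X n) := piece_res stable_qcoh P₂ hq₂ l₂ hl₂
  let d₁ := max c₁ (b₁ + l₁.length)
  let d₂ := max c₂ (b₂ + l₂.length)
  have hC₁b : ∀ n, d₁ < n → IsZero (C₁.X n) := fun n hn => isZero_res stable_flatSec P₁ hP hb₁ l₁ hl₁ n (by omega)
  have hC₂b : ∀ n, d₂ < n → IsZero (C₂.X n) := fun n hn => isZero_res stable_qcoh P₂ hq₂ hb₂ l₂ hl₂ n (by omega)
  have hR₁ := acyclic_R A stable_flatSec P₁ hP l₁ hl₁ hcov₁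
  have hR₂ := acyclic_R A stable_qcoh P₂ hq₂ l₂ hl₂ hcov₂
  have hR₁b := isZero_R P₁ hb₁ l₁
  have hR₂b := isZero_R P₂ hb₂ l₂
  -- the factors
  obtain ⟨g₁⟩ := nonempty_map_res_iso stable_flatSec P₁ hP (𝟭 X₁.Modules) l₁ hl₁
    (acyclic_of_iso ((Functor.mapHomologicalComplexIdIso X₁.Modules (ComplexShape.up ℤ)).app _).symm hR₁)
  obtain ⟨g₂⟩ := nonempty_map_res_iso stable_qcoh P₂ hq₂ (𝟭 X₂.Modules) l₂ hl₂
    (acyclic_of_iso ((Functor.mapHomologicalComplexIdIso X₂.Modules (ComplexShape.up ℤ)).app _).symm hR₂)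
  obtain ⟨eC₁⟩ := nonempty_computes (A := A) P₁ C₁
    (DerivedCategory.Q.mapIso ((Functor.mapHomologicalComplexIdIso X₁.Modules (ComplexShape.up ℤ)).app P₁).symm ≪≫ g₁ ≪≫
      DerivedCategory.Q.mapIso ((Functor.mapHomologicalComplexIdIso X₁.Modules (ComplexShape.up ℤ)).app C₁))
    (fun n => ((hC₁ n).mem stable_flatSec hl₁).qcoh) fun n => (hC₁ n).noHigher stable_flatSec hl₁
  obtain ⟨eC₂⟩ := nonempty_computes (A := A) P₂ C₂
    (DerivedCategory.Q.mapIso ((Functor.mapHomologicalComplexIdIso X₂.Modules (ComplexShape.up ℤ)).app P₂).symm ≪≫ g₂ ≪≫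
      DerivedCategory.Q.mapIso ((Functor.mapHomologicalComplexIdIso X₂.Modules (ComplexShape.up ℤ)).app C₂))
    (fun n => (hC₂ n).mem stable_qcoh hl₂) fun n => (hC₂ n).noHigher stable_qcoh hl₂
  let K₁ := (secCx A (⊤ : X₁.Opens)).obj C₁
  let K₂ := (secCx A (⊤ : X₂.Opens)).obj C₂
  haveI : L₁.IsKProjective := DRingKP.isKProjective_of_vanishesAbove hc₁ hL₁
  haveI : L₂.IsKProjective := DRingKP.isKProjective_of_vanishesAbove hc₂ hL₂
  obtain ⟨f₁, hf₁⟩ := PerfLocal.exists_lift (e₁ ≪≫ eC₁.symm).hom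
  obtain ⟨f₂, hf₂⟩ := PerfLocal.exists_lift (e₂ ≪≫ eC₂.symm).hom
  haveI : QuasiIso f₁ := by
    rw [← DerivedCategory.isIso_Q_map_iff_quasiIso, hf₁]
    exact inferInstanceAs (IsIso (e₁ ≪≫ eC₁.symm).hom)
  haveI : QuasiIso f₂ := by
    rw [← DerivedCategory.isIso_Q_map_iff_quasiIso, hf₂]
    exact inferInstanceAs (IsIso (e₂ ≪≫ eC₂.symm).hom)
  have hK₁b : ∀ n, d₁ < n → IsZero (K₁.X n) := fun n hn => (secA A (⊤ : X₁.Opens)).map_isZero (hC₁b n hn)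
  haveI hs₁ : QuasiIso (((KFlat.tens (tB A)).map f₁).app L₂) :=
    quasiIso_tens_of_flat f₁ (b := d₁) (fun n hn => hc₁ n (by omega)) hK₁b
      (fun n => by
        haveI : Module.Projective A (L₁.X n) := (IsProjective.iff_projective (L₁.X n)).2 (hL₁ n)
        infer_instance)
      (fun n => (hC₁ n).flat_top hl₁) L₂
  haveI hs₂ : QuasiIso (((KFlat.tens (tB A)).obj K₁).map f₂) :=
    KFlat.quasiIso_obj_map_of_acyclic K₁ f₂ (KFlat.RFlat.acyclic_tens_left (DRingKP.tBraid A)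
      (rflat_of_flat hK₁b fun n => (hC₁ n).flat_top hl₁) (KFlat.mappingCone_acyclic f₂))
  -- the resolution of the first variable
  have hcov := iSup_prod p q sq l₁ l₂ hcov₁ hcov₂
  have hW : ∀ j : Fin l₁.length × Fin l₂.length, IsAffineOpen (p ⁻¹ᵁ l₁[j.1] ⊓ q ⁻¹ᵁ l₂[j.2]) := fun j =>
    isAffineOpen_prod p q sq (hl₁ _ (List.getElem_mem _)) (hl₂ _ (List.getElem_mem _))
  have hT₁ : (extCx p q (R P₁ l₁) P₂).Acyclic := by
    refine acyclic_of_cover (A := A) (fun n => prop_extCx p q Coh.IsQCoh DQCoh.isQCoh_of_isZero RPushQC.isQCoh_biprod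
      QC.isQCoh_of_iso (R P₁ l₁) P₂ (a := b₁ + l₁.length) (b := b₂) hR₁b hb₂
      (fun i j => isQCoh_ext₂ p q ((exists_splitting stable_flatSec P₁ hP l₁ hl₁ i).2).qcoh (hq₂ j)) n) _ hW hcov
      fun j => ?_
    have hV₁ : IsAffineOpen l₁[j.1] := hl₁ _ (List.getElem_mem _)
    have hV₂ : IsAffineOpen l₂[j.2] := hl₂ _ (List.getElem_mem _)
    obtain ⟨ε⟩ := nonempty_secExt p q hp hq inf_le_left inf_le_right (R P₁ l₁) P₂ (a := b₁ + l₁.length) (b := b₂)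
      hR₁b hb₂ fun i k => isIso_pairE p q hp hq sq hV₁ hV₂ ((exists_splitting stable_flatSec P₁ hP l₁ hl₁ i).2).qcoh (hq₂ k)
    exact acyclic_of_iso ε (acyclic_tens_of_flat
      (acyclic_secCx (fun n => ((exists_splitting stable_flatSec P₁ hP l₁ hl₁ n).2).qcoh) hR₁ hV₁)
      (fun n hn => (secA A l₁[j.1]).map_isZero (hR₁b n hn))
      (fun n => ((exists_splitting stable_flatSec P₁ hP l₁ hl₁ n).2).flat _ hV₁) ((secCx A l₂[j.2]).obj P₂))
  -- and of the second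
  have hT₂ : (extCx p q C₁ (R P₂ l₂)).Acyclic := by
    refine acyclic_of_cover (A := A) (fun n => prop_extCx p q Coh.IsQCoh DQCoh.isQCoh_of_isZero RPushQC.isQCoh_biprod
      QC.isQCoh_of_iso C₁ (R P₂ l₂) (a := d₁) (b := b₂ + l₂.length) hC₁b hR₂b
      (fun i j => isQCoh_ext₂ p q ((hC₁ i).mem stable_flatSec hl₁).qcoh (exists_splitting stable_qcoh P₂ hq₂ l₂ hl₂ j).2) n)
      _ hW hcov fun j => ?_
    have hV₁ : IsAffineOpen l₁[j.1] := hl₁ _ (List.getElem_mem _)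
    have hV₂ : IsAffineOpen l₂[j.2] := hl₂ _ (List.getElem_mem _)
    obtain ⟨ε⟩ := nonempty_secExt p q hp hq inf_le_left inf_le_right C₁ (R P₂ l₂) (a := d₁) (b := b₂ + l₂.length)
      hC₁b hR₂b fun i k => isIso_pairE p q hp hq sq hV₁ hV₂ ((hC₁ i).mem stable_flatSec hl₁).qcoh
        (exists_splitting stable_qcoh P₂ hq₂ l₂ hl₂ k).2
    exact acyclic_of_iso ε (KFlat.RFlat.acyclic_tens_left (DRingKP.tBraid A)
      (rflat_of_flat (fun n hn => (secA A l₁[j.1]).map_isZero (hC₁b n hn))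
        (fun n => ((hC₁ n).mem stable_flatSec hl₁).flat _ hV₁))
      (acyclic_secCx (fun n => (exists_splitting stable_qcoh P₂ hq₂ l₂ hl₂ n).2) hR₂ hV₂))
  let T₁ := HTor.pullCx p ⋙ (KFlat.tens (KFlat.schB Z)).flip.obj ((HTor.pullCx q).obj P₂)
  let T₂ := HTor.pullCx q ⋙ (KFlat.tens (KFlat.schB Z)).obj ((HTor.pullCx p).obj C₁)
  have hS₁ : ((sequence P₁ l₁).map T₁).ShortExact :=
    KFlat.shortExact_of_splitting fun n => KFlat.splittingFlip (KFlat.schB Z) _ ((sequence P₁ l₁).map (HTor.pullCx p))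
      (fun m => (exists_sequence_splitting stable_flatSec P₁ hP l₁ hl₁ m).1.some.map (Scheme.Modules.pullback p)) n
  have hS₂ : ((sequence P₂ l₂).map T₂).ShortExact :=
    KFlat.shortExact_of_splitting fun n => KFlat.splittingObj (KFlat.schB Z) _ ((sequence P₂ l₂).map (HTor.pullCx q))
      (fun m => (exists_sequence_splitting stable_qcoh P₂ hq₂ l₂ hl₂ m).1.some.map (Scheme.Modules.pullback q)) n
  obtain ⟨s₁⟩ := nonempty_Q_iso_shift hS₁ hT₁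
  obtain ⟨s₂⟩ := nonempty_Q_iso_shift hS₂ hT₂
  let u₁ : extCx p q C₁ P₂ ≅ (extCx p q (kernel (π P₁ l₁)) P₂)⟦(1 : ℤ)⟧ :=
    ((KFlat.tens (KFlat.schB Z)).mapIso
      (((Scheme.Modules.pullback p).mapHomologicalComplex (ComplexShape.up ℤ)).commShiftIso (1 : ℤ) |>.app (kernel (π P₁ l₁)))).app
        ((HTor.pullCx q).obj P₂) ≪≫
      CochainComplex.mapBifunctorShift₁Iso ((HTor.pullCx p).obj (kernel (π P₁ l₁))) ((HTor.pullCx q).obj P₂) (KFlat.schB Z) 1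
  let u₂ : extCx p q C₁ C₂ ≅ (extCx p q C₁ (kernel (π P₂ l₂)))⟦(1 : ℤ)⟧ :=
    ((KFlat.tens (KFlat.schB Z)).obj ((HTor.pullCx p).obj C₁)).mapIso
      (((Scheme.Modules.pullback q).mapHomologicalComplex (ComplexShape.up ℤ)).commShiftIso (1 : ℤ) |>.app (kernel (π P₂ l₂))) ≪≫
      CochainComplex.mapBifunctorShift₂Iso ((HTor.pullCx p).obj C₁) ((HTor.pullCx q).obj (kernel (π P₂ l₂))) (KFlat.schB Z) 1
  obtain ⟨eZ⟩ := nonempty_computes (A := A) (extCx p q P₁ P₂) (extCx p q C₁ C₂)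
    ((s₁ ≪≫ DerivedCategory.Q.mapIso u₁.symm) ≪≫ (s₂ ≪≫ DerivedCategory.Q.mapIso u₂.symm))
    (fun n => prop_extCx p q Coh.IsQCoh DQCoh.isQCoh_of_isZero RPushQC.isQCoh_biprod QC.isQCoh_of_iso C₁ C₂ hC₁b hC₂b
      (fun i j => isQCoh_ext₂ p q ((hC₁ i).mem stable_flatSec hl₁).qcoh ((hC₂ j).mem stable_qcoh hl₂)) n)
    fun n => prop_extCx p q NoHigher noHigher_of_isZero noHigher_biprod noHigher_of_iso C₁ C₂ hC₁b hC₂b
      (fun i j => noHigher_ext₂ p q hp hq sq stable_flatSec stable_qcoh hl₁ hl₂ (hC₁ i) (hC₂ j)) n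
  obtain ⟨εC⟩ := nonempty_secExt p q hp hq (V₁ := (⊤ : X₁.Opens)) (V₂ := (⊤ : X₂.Opens)) (W := (⊤ : Z.Opens))
    le_top le_top C₁ C₂ hC₁b hC₂b
    fun i j => isIso_pairE_top p q hp hq sq stable_flatSec stable_qcoh hl₁ hl₂ (hC₁ i) (hC₂ j)
  haveI : IsIso ((DerivedCategory.Q : _ ⥤ Dual.D A).map (((KFlat.tens (tB A)).map f₁).app L₂)) :=
    (DerivedCategory.isIso_Q_map_iff_quasiIso _ _).2 hs₁
  haveI : IsIso ((DerivedCategory.Q : _ ⥤ Dual.D A).map (((KFlat.tens (tB A)).obj K₁).map f₂)) :=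
    (DerivedCategory.isIso_Q_map_iff_quasiIso _ _).2 hs₂
  exact ⟨asIso ((DerivedCategory.Q : _ ⥤ Dual.D A).map (((KFlat.tens (tB A)).map f₁).app L₂)) ≪≫
    asIso ((DerivedCategory.Q : _ ⥤ Dual.D A).map (((KFlat.tens (tB A)).obj K₁).map f₂)) ≪≫
    DerivedCategory.Q.mapIso εC ≪≫ eZ⟩

end Groth.Agent.KunnAD
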