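import Mathlib.RingTheory.IsTensorProduct

/-!
`(M₁ ⊗ O₁₂) ⊗_{O₁₂} (M₂ ⊗ O₁₂) = M₁ ⊗_A M₂` when `O₁₂ = O₁ ⊗_A O₂`.
-/

set_option autoImplicit false

open TensorProduct

namespace Groth.Agent.KunnAD

theorem bijective_pushout_tensor {A O₁ O₂ O : Type*} [CommRing A] [CommRing O₁] [CommRing O₂] [CommRing O]
    [Algebra A O₁] [Algebra A O₂] [Algebra A O] [Algebra O₁ O] [Algebra O₂ O] [IsScalarTower A O₁ O]
    [IsScalarTower A O₂ O] [Algebra.IsPushout A O₁ O₂ O]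
    {M₁ M₂ N₁ N₂ : Type*} [AddCommGroup M₁] [Module A M₁] [Module O₁ M₁] [IsScalarTower A O₁ M₁]
    [AddCommGroup M₂] [Module A M₂] [Module O₂ M₂] [IsScalarTower A O₂ M₂]
    [AddCommGroup N₁] [Module A N₁] [Module O₁ N₁] [Module O N₁] [IsScalarTower O₁ O N₁] [IsScalarTower A O₁ N₁]
    [IsScalarTower A O N₁]
    [AddCommGroup N₂] [Module A N₂] [Module O₁ N₂] [Module O₂ N₂] [Module O N₂] [IsScalarTower O₁ O N₂]
    [IsScalarTower O₂ O N₂] [IsScalarTower A O₁ N₂] [IsScalarTower A O₂ N₂] [IsScalarTower A O N₂]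
    {f₁ : M₁ →ₗ[O₁] N₁} (h₁ : IsBaseChange O f₁) {f₂ : M₂ →ₗ[O₂] N₂} (h₂ : IsBaseChange O f₂)
    (Φ : M₁ ⊗[A] M₂ →+ N₁ ⊗[O] N₂) (hΦ : ∀ m n, Φ (m ⊗ₜ n) = f₁ m ⊗ₜ f₂ n) : Function.Bijective Φ := by
  let c := Algebra.IsPushout.cancelBaseChange A O₁ O₂ O M₂
  let e : O₁ ⊗[A] M₂ ≃ₗ[O₁] N₂ := c.symm ≪≫ₗ h₂.equiv.restrictScalars O₁
  have he : ∀ x, e (1 ⊗ₜ x) = f₂.restrictScalars A x := fun x => by
    change h₂.equiv (c.symm (1 ⊗ₜ x)) = f₂ x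
    rw [Algebra.IsPushout.cancelBaseChange_symm_tmul, map_one, h₂.equiv_tmul, one_smul]
  have h₂' : IsBaseChange O₁ (f₂.restrictScalars A) := IsBaseChange.of_equiv e he
  let T : M₁ ⊗[A] M₂ ≃+ N₁ ⊗[O] N₂ :=
    ((h₂'.tensorEquiv M₁).symm.toAddEquiv.trans (TensorProduct.comm O₁ M₁ N₂).toAddEquiv).trans
      ((h₁.tensorEquiv N₂).symm.toAddEquiv.trans (TensorProduct.comm O N₂ N₁).toAddEquiv)
  have hT : ∀ m n, T (m ⊗ₜ n) = f₁ m ⊗ₜ f₂ n := fun m n => by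
    simp [T, IsBaseChange.tensorEquiv, IsBaseChange.equiv_tmul]
  have hΦT : (Φ : M₁ ⊗[A] M₂ → N₁ ⊗[O] N₂) = T := by
    funext z
    induction z using TensorProduct.induction_on with
    | zero => rw [map_zero, map_zero]
    | tmul m n => rw [hΦ, hT]
    | add p q hp hq => rw [map_add, map_add, hp, hq]
  rw [hΦT]
  exact T.bijective

end Groth.Agent.KunnAD
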