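import Groth.Agent.KunnAD.PairSec
import Groth.Agent.KunnAD.PushoutTensor
import Groth.Agent.KunnAD.TensorA
import Groth.Agent.ModDesc.BaseChange

/-!
Sections of external tensor products over products of affine opens.
-/

set_option autoImplicit false
set_option backward.isDefEq.respectTransparency false
set_option backward.isDefEq.respectTransparency.types false
set_option linter.style.haveILetI false
set_option linter.unusedSectionVars false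
set_option maxHeartbeats 2000000

universe u

open CategoryTheory CategoryTheory.Limits AlgebraicGeometry TopologicalSpace Opposite MonoidalCategory

noncomputable section

namespace Groth.Agent.KunnAD

open Groth.Agent.W7Cech (secA secRing)
open Groth.Agent.ModDesc (pullSectLE pullSectLE_smul)

variable {A : Type u} [CommRing A] {X₁ X₂ Z : Scheme.{u}} [X₁.Over (Spec (CommRingCat.of A))]
  [X₂.Over (Spec (CommRingCat.of A))] [Z.Over (Spec (CommRingCat.of A))]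

/-- `p^* M₁ ⊗ q^* M₂` -/
abbrev ext₂ (p : Z ⟶ X₁) (q : Z ⟶ X₂) (M₁ : X₁.Modules) (M₂ : X₂.Modules) : Z.Modules :=
  ((KFlat.schB Z).obj ((Scheme.Modules.pullback p).obj M₁)).obj ((Scheme.Modules.pullback q).obj M₂)

lemma secRing_appLE (p : Z ⟶ X₁) (hp : p ≫ (X₁ ↘ Spec (CommRingCat.of A)) = Z ↘ Spec (CommRingCat.of A))
    {V : X₁.Opens} {W : Z.Opens} (e : W ≤ p ⁻¹ᵁ V) (a : A) :
    (p.appLE V W e).hom (secRing A V a) = secRing A W a := by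
  have h : (X₁ ↘ Spec (CommRingCat.of A)).appLE ⊤ V le_top ≫ p.appLE V W e =
      (Z ↘ Spec (CommRingCat.of A)).appLE ⊤ W le_top := by
    simp only [Scheme.Hom.appLE_comp_appLE, hp]
  exact congr(($h).hom ((Scheme.ΓSpecIso (CommRingCat.of A)).inv.hom a))

variable (p : Z ⟶ X₁) (q : Z ⟶ X₂) (hp : p ≫ (X₁ ↘ Spec (CommRingCat.of A)) = Z ↘ Spec (CommRingCat.of A))
  (hq : q ≫ (X₂ ↘ Spec (CommRingCat.of A)) = Z ↘ Spec (CommRingCat.of A))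

include hp hq in
/-- the bilinear pairing of sections -/
def extBil {V₁ : X₁.Opens} {V₂ : X₂.Opens} {W : Z.Opens} (e₁ : W ≤ p ⁻¹ᵁ V₁) (e₂ : W ≤ q ⁻¹ᵁ V₂)
    (M₁ : X₁.Modules) (M₂ : X₂.Modules) :
    ((secA A V₁).obj M₁ : Type u) →ₗ[A] ((secA A V₂).obj M₂ : Type u) →ₗ[A]
      ((secA A W).obj (ext₂ p q M₁ M₂) : Type u) :=
  LinearMap.mk₂ A (fun s t => (TMul.tm (pullSectLE p M₁ V₁ W e₁ s) (pullSectLE q M₂ V₂ W e₂ t) :))
    (fun s s' t => (congrArg (fun z => TMul.tm z _) (map_add (pullSectLE p M₁ V₁ W e₁) s s')).trans (TMul.tm_add _ _ _))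
    (fun a s t => (congrArg (fun z => TMul.tm z _) ((pullSectLE_smul p M₁ V₁ W e₁ (secRing A V₁ a) s).trans
      (congrArg (fun c : Γ(Z, W) => c • _) (secRing_appLE p hp e₁ a)))).trans (TMul.smul_tm _ _ _))
    (fun s t t' => (congrArg (TMul.tm _) (map_add (pullSectLE q M₂ V₂ W e₂) t t')).trans (TMul.add_tm _ _ _))
    (fun a s t => (congrArg (TMul.tm _) ((pullSectLE_smul q M₂ V₂ W e₂ (secRing A V₂ a) t).trans
      (congrArg (fun c : Γ(Z, W) => c • _) (secRing_appLE q hq e₂ a)))).trans (TMul.tm_smul _ _ _))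

/-- the pairing of sections -/
def pairE {V₁ : X₁.Opens} {V₂ : X₂.Opens} {W : Z.Opens} (e₁ : W ≤ p ⁻¹ᵁ V₁) (e₂ : W ≤ q ⁻¹ᵁ V₂)
    (M₁ : X₁.Modules) (M₂ : X₂.Modules) :
    (secA A V₁).obj M₁ ⊗ (secA A V₂).obj M₂ ⟶ (secA A W).obj (ext₂ p q M₁ M₂) :=
  ModuleCat.ofHom (Y := ((secA A W).obj (ext₂ p q M₁ M₂) : Type u))
    (TensorProduct.lift (extBil p q hp hq e₁ e₂ M₁ M₂))

lemma pairE_tmul {V₁ : X₁.Opens} {V₂ : X₂.Opens} {W : Z.Opens} (e₁ : W ≤ p ⁻¹ᵁ V₁) (e₂ : W ≤ q ⁻¹ᵁ V₂)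
    (M₁ : X₁.Modules) (M₂ : X₂.Modules) (s : Γ(M₁, V₁)) (t : Γ(M₂, V₂)) :
    (pairE p q hp hq e₁ e₂ M₁ M₂).hom ((show (secA A V₁).obj M₁ from s) ⊗ₜ[A] (show (secA A V₂).obj M₂ from t)) =
      (TMul.tm (pullSectLE p M₁ V₁ W e₁ s) (pullSectLE q M₂ V₂ W e₂ t) : Γ(ext₂ p q M₁ M₂, W)) :=
  TensorProduct.lift.tmul _ _

lemma pairE_natural₁ {V₁ : X₁.Opens} {V₂ : X₂.Opens} {W : Z.Opens} (e₁ : W ≤ p ⁻¹ᵁ V₁) (e₂ : W ≤ q ⁻¹ᵁ V₂)
    {M₁ M₁' : X₁.Modules} (φ : M₁ ⟶ M₁') (M₂ : X₂.Modules) :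
    (secA A V₁).map φ ▷ (secA A V₂).obj M₂ ≫ pairE p q hp hq e₁ e₂ M₁' M₂ =
      pairE p q hp hq e₁ e₂ M₁ M₂ ≫ (secA A W).map
        (((KFlat.schB Z).map ((Scheme.Modules.pullback p).map φ)).app ((Scheme.Modules.pullback q).obj M₂)) :=
  ModuleCat.MonoidalCategory.tensor_ext fun (s : Γ(M₁, V₁)) (t : Γ(M₂, V₂)) => by
    refine (pairE_tmul p q hp hq e₁ e₂ M₁' M₂ (φ.app V₁ s) t).trans ?_
    refine (congrArg (fun z => TMul.tm z _) (ModDesc.app_pullSectLE p φ V₁ W e₁ s).symm).trans ?_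
    refine ((TorBC.tm_map_left _ (pullSectLE p M₁ V₁ W e₁ s) (pullSectLE q M₂ V₂ W e₂ t)).symm.trans ?_)
    exact (congrArg ((((KFlat.schB Z).map ((Scheme.Modules.pullback p).map φ)).app _).app W)
      (pairE_tmul p q hp hq e₁ e₂ M₁ M₂ s t)).symm

lemma pairE_natural₂ {V₁ : X₁.Opens} {V₂ : X₂.Opens} {W : Z.Opens} (e₁ : W ≤ p ⁻¹ᵁ V₁) (e₂ : W ≤ q ⁻¹ᵁ V₂)
    (M₁ : X₁.Modules) {M₂ M₂' : X₂.Modules} (ψ : M₂ ⟶ M₂') :
    (secA A V₁).obj M₁ ◁ (secA A V₂).map ψ ≫ pairE p q hp hq e₁ e₂ M₁ M₂' =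
      pairE p q hp hq e₁ e₂ M₁ M₂ ≫ (secA A W).map
        (((KFlat.schB Z).obj ((Scheme.Modules.pullback p).obj M₁)).map ((Scheme.Modules.pullback q).map ψ)) :=
  ModuleCat.MonoidalCategory.tensor_ext fun (s : Γ(M₁, V₁)) (t : Γ(M₂, V₂)) => by
    refine (pairE_tmul p q hp hq e₁ e₂ M₁ M₂' s (ψ.app V₂ t)).trans ?_
    refine (congrArg (TMul.tm _) (ModDesc.app_pullSectLE q ψ V₂ W e₂ t).symm).trans ?_
    refine ((TorBC.tm_map_right _ (pullSectLE p M₁ V₁ W e₁ s) (pullSectLE q M₂ V₂ W e₂ t)).symm.trans ?_)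
    exact (congrArg ((((KFlat.schB Z).obj _).map _).app W) (pairE_tmul p q hp hq e₁ e₂ M₁ M₂ s t)).symm

lemma pairE_res {V₁ V₁' : X₁.Opens} {V₂ V₂' : X₂.Opens} {W W' : Z.Opens} (h₁ : V₁' ≤ V₁) (h₂ : V₂' ≤ V₂)
    (h : W' ≤ W) (e₁ : W ≤ p ⁻¹ᵁ V₁) (e₂ : W ≤ q ⁻¹ᵁ V₂) (e₁' : W' ≤ p ⁻¹ᵁ V₁') (e₂' : W' ≤ q ⁻¹ᵁ V₂')
    (M₁ : X₁.Modules) (M₂ : X₂.Modules) :
    (resA (A := A) h₁ M₁ ⊗ₘ resA (A := A) h₂ M₂) ≫ pairE p q hp hq e₁' e₂' M₁ M₂ =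
      pairE p q hp hq e₁ e₂ M₁ M₂ ≫ resA (A := A) h (ext₂ p q M₁ M₂) :=
  ModuleCat.MonoidalCategory.tensor_ext fun (s : Γ(M₁, V₁)) (t : Γ(M₂, V₂)) => by
    refine (pairE_tmul p q hp hq e₁' e₂' M₁ M₂ (QC.res M₁ h₁ s) (QC.res M₂ h₂ t)).trans ?_
    refine Eq.trans ?_ (congrArg (QC.res (ext₂ p q M₁ M₂) h) (pairE_tmul p q hp hq e₁ e₂ M₁ M₂ s t)).symm
    refine Eq.trans ?_ (TMul.res_tm h _ _).symm
    exact (congrArg₂ TMul.tm (ModDesc.res_pullSectLE p M₁ h₁ h e₁ e₁' s)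
      (ModDesc.res_pullSectLE q M₂ h₂ h e₂ e₂' t)).symm

variable (sq : IsPullback p q (X₁ ↘ Spec (CommRingCat.of A)) (X₂ ↘ Spec (CommRingCat.of A)))

include sq in
/-- products of affine opens are affine -/
theorem isAffineOpen_prod {V₁ : X₁.Opens} {V₂ : X₂.Opens} (hV₁ : IsAffineOpen V₁) (hV₂ : IsAffineOpen V₂) :
    IsAffineOpen (p ⁻¹ᵁ V₁ ⊓ q ⁻¹ᵁ V₂) := by
  haveI : IsAffine _ := hV₁
  haveI : IsAffine _ := hV₂
  haveI : IsAffine _ := isAffineOpen_top (Spec (CommRingCat.of A))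
  exact .of_isIso (Scheme.Hom.isPullback_resLE sq (US := ⊤) (UT := V₂) (UX := V₁) le_top le_top rfl).isoPullback.hom

include sq in
/-- **on products of affine opens the pairing is an isomorphism** -/
theorem isIso_pairE {V₁ : X₁.Opens} {V₂ : X₂.Opens} (hV₁ : IsAffineOpen V₁) (hV₂ : IsAffineOpen V₂)
    {M₁ : X₁.Modules} (hM₁ : Coh.IsQCoh M₁) {M₂ : X₂.Modules} (hM₂ : Coh.IsQCoh M₂) :
    IsIso (pairE p q hp hq (inf_le_left : p ⁻¹ᵁ V₁ ⊓ q ⁻¹ᵁ V₂ ≤ _) inf_le_right M₁ M₂) := by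
  set W := p ⁻¹ᵁ V₁ ⊓ q ⁻¹ᵁ V₂
  have e₁ : W ≤ p ⁻¹ᵁ V₁ := inf_le_left
  have e₂ : W ≤ q ⁻¹ᵁ V₂ := inf_le_right
  have hW : IsAffineOpen W := isAffineOpen_prod p q sq hV₁ hV₂
  let N₁ := (Scheme.Modules.pullback p).obj M₁
  let N₂ := (Scheme.Modules.pullback q).obj M₂
  letI : Algebra A ↑Γ(X₁, V₁) := (secRing A V₁).toAlgebra
  letI : Algebra A ↑Γ(X₂, V₂) := (secRing A V₂).toAlgebra
  letI : Algebra A ↑Γ(Z, W) := (secRing A W).toAlgebra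
  letI : Algebra ↑Γ(X₁, V₁) ↑Γ(Z, W) := (p.appLE V₁ W e₁).hom.toAlgebra
  letI : Algebra ↑Γ(X₂, V₂) ↑Γ(Z, W) := (q.appLE V₂ W e₂).hom.toAlgebra
  haveI : IsScalarTower A ↑Γ(X₁, V₁) ↑Γ(Z, W) := IsScalarTower.of_algebraMap_eq fun a => (secRing_appLE p hp e₁ a).symm
  haveI : IsScalarTower A ↑Γ(X₂, V₂) ↑Γ(Z, W) := IsScalarTower.of_algebraMap_eq fun a => (secRing_appLE q hq e₂ a).symm
  haveI : Algebra.IsPushout A ↑Γ(X₁, V₁) ↑Γ(X₂, V₂) ↑Γ(Z, W) := by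
    refine CommRingCat.isPushout_iff_isPushout.1 ?_
    have hP := (isIso_pushoutSection_iff sq (US := ⊤) (UT := V₂) (UX := V₁) le_top le_top rfl).1
      (isIso_pushoutSection_of_isAffineOpen sq le_top le_top rfl (isAffineOpen_top _) hV₂ hV₁)
    refine IsPushout.of_iso hP (Scheme.ΓSpecIso (CommRingCat.of A)) (Iso.refl _) (Iso.refl _) (Iso.refl _) ?_ ?_ ?_ ?_
    · rw [← cancel_epi (Scheme.ΓSpecIso (CommRingCat.of A)).inv]
      ext a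
      simp only [Iso.refl_hom, Category.comp_id, Iso.inv_hom_id_assoc]
      rfl
    · rw [← cancel_epi (Scheme.ΓSpecIso (CommRingCat.of A)).inv]
      ext a
      simp only [Iso.refl_hom, Category.comp_id, Iso.inv_hom_id_assoc]
      rfl
    · simp only [Iso.refl_hom, Category.comp_id, Category.id_comp]; rfl
    · simp only [Iso.refl_hom, Category.comp_id, Category.id_comp]; rfl
  letI : Module A ↑Γ(M₁, V₁) := Module.compHom _ (secRing A V₁)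
  letI : Module A ↑Γ(M₂, V₂) := Module.compHom _ (secRing A V₂)
  haveI : IsScalarTower A ↑Γ(X₁, V₁) ↑Γ(M₁, V₁) := IsScalarTower.of_algebraMap_smul fun _ _ => rfl
  haveI : IsScalarTower A ↑Γ(X₂, V₂) ↑Γ(M₂, V₂) := IsScalarTower.of_algebraMap_smul fun _ _ => rfl
  letI : Module A ↑Γ(N₁, W) := Module.compHom _ (secRing A W)
  letI : Module A ↑Γ(N₂, W) := Module.compHom _ (secRing A W)
  letI : Module ↑Γ(X₁, V₁) ↑Γ(N₁, W) := Module.compHom _ (p.appLE V₁ W e₁).hom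
  letI : Module ↑Γ(X₁, V₁) ↑Γ(N₂, W) := Module.compHom _ (p.appLE V₁ W e₁).hom
  letI : Module ↑Γ(X₂, V₂) ↑Γ(N₂, W) := Module.compHom _ (q.appLE V₂ W e₂).hom
  haveI : IsScalarTower ↑Γ(X₁, V₁) ↑Γ(Z, W) ↑Γ(N₁, W) := IsScalarTower.of_algebraMap_smul fun _ _ => rfl
  haveI : IsScalarTower ↑Γ(X₁, V₁) ↑Γ(Z, W) ↑Γ(N₂, W) := IsScalarTower.of_algebraMap_smul fun _ _ => rfl
  haveI : IsScalarTower ↑Γ(X₂, V₂) ↑Γ(Z, W) ↑Γ(N₂, W) := IsScalarTower.of_algebraMap_smul fun _ _ => rfl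
  haveI : IsScalarTower A ↑Γ(Z, W) ↑Γ(N₁, W) := IsScalarTower.of_algebraMap_smul fun _ _ => rfl
  haveI : IsScalarTower A ↑Γ(Z, W) ↑Γ(N₂, W) := IsScalarTower.of_algebraMap_smul fun _ _ => rfl
  haveI : IsScalarTower A ↑Γ(X₁, V₁) ↑Γ(N₁, W) := IsScalarTower.of_algebraMap_smul fun a s =>
    congrArg (fun c : Γ(Z, W) => c • s) (secRing_appLE p hp e₁ a)
  haveI : IsScalarTower A ↑Γ(X₁, V₁) ↑Γ(N₂, W) := IsScalarTower.of_algebraMap_smul fun a s =>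
    congrArg (fun c : Γ(Z, W) => c • s) (secRing_appLE p hp e₁ a)
  haveI : IsScalarTower A ↑Γ(X₂, V₂) ↑Γ(N₂, W) := IsScalarTower.of_algebraMap_smul fun a s =>
    congrArg (fun c : Γ(Z, W) => c • s) (secRing_appLE q hq e₂ a)
  let g₁ : ↑Γ(M₁, V₁) →ₗ[↑Γ(X₁, V₁)] ↑Γ(N₁, W) :=
    { toFun := fun s => pullSectLE p M₁ V₁ W e₁ s
      map_add' := map_add _
      map_smul' := pullSectLE_smul p M₁ V₁ W e₁ }
  let g₂ : ↑Γ(M₂, V₂) →ₗ[↑Γ(X₂, V₂)] ↑Γ(N₂, W) :=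
    { toFun := fun s => pullSectLE q M₂ V₂ W e₂ s
      map_add' := map_add _
      map_smul' := pullSectLE_smul q M₂ V₂ W e₂ }
  haveI := hM₁
  haveI := hM₂
  have hg₁ : IsBaseChange ↑Γ(Z, W) g₁ := by
    obtain ⟨Φ, hΦ⟩ := ModDesc.exists_bijective_liftBaseChange p M₁ hV₁ hW e₁
    exact IsBaseChange.of_equiv Φ hΦ
  have hg₂ : IsBaseChange ↑Γ(Z, W) g₂ := by
    obtain ⟨Φ, hΦ⟩ := ModDesc.exists_bijective_liftBaseChange q M₂ hV₂ hW e₂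
    exact IsBaseChange.of_equiv Φ hΦ
  let Φ : TensorProduct A ↑Γ(M₁, V₁) ↑Γ(M₂, V₂) →+ TensorProduct ↑Γ(Z, W) ↑Γ(N₁, W) ↑Γ(N₂, W) :=
    TensorProduct.liftAddHom
      { toFun := fun m =>
          { toFun := fun n => g₁ m ⊗ₜ g₂ n
            map_zero' := by rw [map_zero, TensorProduct.tmul_zero]
            map_add' := fun n n' => by rw [map_add, TensorProduct.tmul_add] }
        map_zero' := AddMonoidHom.ext fun n => by
          change g₁ 0 ⊗ₜ g₂ n = 0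
          rw [map_zero, TensorProduct.zero_tmul]
        map_add' := fun m m' => AddMonoidHom.ext fun n => by
          change g₁ (m + m') ⊗ₜ g₂ n = g₁ m ⊗ₜ g₂ n + g₁ m' ⊗ₜ g₂ n
          rw [map_add, TensorProduct.add_tmul] }
      fun a m n => by
        change g₁ (a • m) ⊗ₜ g₂ n = g₁ m ⊗ₜ g₂ (a • n)
        rw [LinearMap.map_smul_of_tower, LinearMap.map_smul_of_tower, TensorProduct.smul_tmul]
  have hΦb := bijective_pushout_tensor hg₁ hg₂ Φ fun _ _ => rfl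
  have key : ∀ z, (pairE p q hp hq e₁ e₂ M₁ M₂).hom z = TMul.tt N₁ N₂ W (Φ z) := fun z => by
    induction z using TensorProduct.induction_on with
    | zero => exact (map_zero _).trans ((congrArg (TMul.tt N₁ N₂ W) (map_zero Φ)).trans (map_zero _)).symm
    | tmul s t => exact pairE_tmul p q hp hq e₁ e₂ M₁ M₂ s t
    | add a b ha hb =>
      exact (map_add _ a b).trans ((congrArg₂ (· + ·) ha hb).trans
        ((congrArg (TMul.tt N₁ N₂ W) (map_add Φ a b)).trans (map_add _ _ _)).symm)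
  rw [ConcreteCategory.isIso_iff_bijective]
  refine (congrArg Function.Bijective (funext key)).mpr ?_
  exact (bijective_tt hW (QC.isQCoh_pullback p hM₁) (QC.isQCoh_pullback q hM₂)).comp hΦb

end Groth.Agent.KunnAD
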