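import Groth.Agent.LCZ.AcycExt
import Groth.Agent.DCohShriek.DualModule
import Groth.Agent.KunnAD.Main
import Groth.Agent.TMul.Ample
import Groth.Prelude.Def_KLin

/-!
Sheaf cohomology of a module, with its `A`-module structure, is the homology of derived global sections.
-/

set_option autoImplicit false
set_option backward.isDefEq.respectTransparency false
set_option backward.isDefEq.respectTransparency.types false
set_option linter.style.haveILetI false
set_option linter.unusedSectionVars false
set_option maxHeartbeats 1000000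

universe u

open CategoryTheory CategoryTheory.Limits AlgebraicGeometry TopologicalSpace Opposite Abelian

attribute [local instance] HasDerivedCategory.standard

noncomputable section

namespace Groth.Agent.KunnAD.HH

open Groth.Agent.DCohShriek (hhHomLinearEquiv)
open Groth.Agent.KunnAD (gam gamCx gamSecIso)
open Groth.Agent.W7Cech (secA secRing)

variable {A : Type u} [CommRing A] {X : Scheme.{u}} [X.Over (Spec (CommRingCat.of A))]

local instance hasExtMod : HasExt.{u} (SheafOfModules.{u} X.ringCatSheaf) :=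
  inferInstanceAs (HasExt.{u} X.Modules)

/-- cohomology is `Ext` out of the structure module, linearly -/
def hhExtEquiv (F : X.Modules) (n : ℕ) :
    Ext (Coh.structureModule X) F n ≃ₗ[A] Coh.HH X F n :=
  Ext.homLinearEquiv.trans (hhHomLinearEquiv F n).symm

/-- global sections as maps, linearly -/
def homSec (M : X.Modules) : (Coh.structureModule X ⟶ M) ≃ₗ[A] ((gam A).obj M : Type u) :=
  LinearEquiv.ofBijective
    (({ toFun := fun f => f.app ⊤ (1 : Γ(X, ⊤))
        map_add' := fun f g => rfl
        map_smul' := fun a f => by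
          rw [KLin.smul_app_apply]
          rfl } : (Coh.structureModule X ⟶ M) →ₗ[A] ((secA A (⊤ : X.Opens)).obj M : Type u))) ⟨
    fun f g h => (SheafOfModules.unitHomEquiv (R := X.ringCatSheaf) M).injective (Subtype.ext (funext fun U => by
      let U' : X.Opens := U.unop
      have hf : ∀ f : Coh.structureModule X ⟶ M, (M.unitHomEquiv f).val U =
          Groth.Agent.QC.res M (le_top : U' ≤ ⊤) (f.app ⊤ (1 : Γ(X, ⊤))) := fun f =>
        ((M.unitHomEquiv f).property (homOfLE (le_top : U' ≤ ⊤)).op).symm
      rw [hf, hf]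
      exact congrArg _ h)),
    fun t => ⟨TMul.homOf t, (TMul.val_homOf t ⊤).trans (Groth.Agent.QC.res_self _ _ _)⟩⟩ ≪≫ₗ
    ((gamSecIso (A := A)).app M).toLinearEquiv

lemma homSec_comp {M N : X.Modules} (f : Coh.structureModule X ⟶ M) (φ : M ⟶ N) :
    homSec (A := A) N (f ≫ φ) = ((gam A).map φ).hom (homSec (A := A) M f) := rfl

section Res

variable (K : CochainComplex X.Modules ℕ)

/-- cocycles of `Hom(O, K)` as a submodule -/
def cyc (n : ℕ) : Submodule A (Coh.structureModule X ⟶ K.X n) :=
  LinearMap.ker (Linear.rightComp A _ (K.d n (n + 1)))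

variable (hex : ∀ n, K.ExactAt (n + 1))

/-- classes of cocycles -/
def clsL (n : ℕ) : cyc (A := A) K n →ₗ[A] Ext (Coh.structureModule X) (K.cycles 0) n where
  toFun f := LCZ.homCls K hex (Coh.structureModule X) n (LCZ.mkCyc K _ n f.1 f.2)
  map_add' f g := map_add (LCZ.homCls K hex (Coh.structureModule X) n) (LCZ.mkCyc K _ n f.1 f.2) (LCZ.mkCyc K _ n g.1 g.2)
  map_smul' a f := by
    simp only [RingHom.id_apply]
    have h : LCZ.homLift K (Coh.structureModule X) n (LCZ.mkCyc K _ n (a • f).1 (a • f).2) =
        a • LCZ.homLift K (Coh.structureModule X) n (LCZ.mkCyc K _ n f.1 f.2) := by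
      rw [← cancel_mono (K.iCycles n), Linear.smul_comp, LCZ.homLift_i, LCZ.homLift_i]
      rfl
    exact ((congrArg (fun g => (Ext.mk₀ g).comp (LCZ.eCls K hex n) (zero_add n)) h).trans
      (congrArg (fun z => Ext.comp z (LCZ.eCls K hex n) (zero_add n)) (Ext.mk₀_smul a _))).trans
      (Ext.smul_comp _ _ _ _)

/-- coboundaries -/
def bd (n : ℕ) : ((gam A).obj (K.X n) : Type u) →ₗ[A] ((gam A).obj (K.X (n + 1)) : Type u) :=
  ((gam A).map (K.d n (n + 1))).hom

variable (hK : ∀ n m : ℕ, Subsingleton (Ext (Coh.structureModule X) (K.X n) (m + 1)))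

include hex hK in
theorem nonempty_cls_equiv (n : ℕ) :
    Nonempty ((((gam A).mapHomologicalComplex (ComplexShape.up ℕ)).obj K).homology n ≃ₗ[A]
      Ext (Coh.structureModule X) (K.cycles 0) n) := by
  let G := ((gam A).mapHomologicalComplex (ComplexShape.up ℕ)).obj K
  have hcyc : ∀ t : ((gam A).obj (K.X n) : Type u), bd (A := A) K n t = 0 →
      (homSec (A := A) (K.X n)).symm t ∈ cyc (A := A) K n := fun t ht => by
    refine (homSec (A := A) (K.X (n + 1))).injective ?_
    show homSec (A := A) _ ((homSec (A := A) (K.X n)).symm t ≫ K.d n (n + 1)) = homSec (A := A) _ 0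
    rw [homSec_comp, LinearEquiv.apply_symm_apply, map_zero]
    exact ht
  let Θ : LinearMap.ker (bd (A := A) K n) →ₗ[A] Ext (Coh.structureModule X) (K.cycles 0) n :=
    (clsL K hex n).comp (LinearMap.codRestrict _ (((homSec (A := A) (K.X n)).symm.toLinearMap).comp
      (LinearMap.ker (bd (A := A) K n)).subtype) fun t => hcyc t.1 t.2)
  have hsurj : Function.Surjective Θ := fun x => by
    obtain ⟨f, rfl⟩ := LCZ.homCls_surjective K hex (Coh.structureModule X) hK n x
    have hf : bd (A := A) K n (homSec (A := A) (K.X n) f.1) = 0 := by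
      show ((gam A).map (K.d n (n + 1))).hom _ = 0
      rw [← homSec_comp, show f.1 ≫ K.d n (n + 1) = 0 from f.2, map_zero]
    exact ⟨⟨_, hf⟩, congrArg (LCZ.homCls K hex (Coh.structureModule X) n)
      (Subtype.ext ((homSec (A := A) (K.X n)).symm_apply_apply f.1))⟩
  rcases n with _ | n
  · have hinj : Function.Injective Θ := (injective_iff_map_eq_zero Θ).2 fun t ht => Subtype.ext
      (((homSec (A := A) (K.X 0)).symm).injective
        (((LCZ.homCls_zero_eq_zero_iff K hex (Coh.structureModule X) _).1 ht).trans (map_zero _).symm))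
    exact ⟨(G.cyclesIsoSc' 0 0 1 (by simp) (by simp) ≪≫ (G.sc' 0 0 1).moduleCatCyclesIso).toLinearEquiv ≪≫ₗ
      LinearEquiv.ofBijective Θ ⟨hinj, hsurj⟩ |> ((CochainComplex.isoHomologyπ₀ G).symm.toLinearEquiv ≪≫ₗ ·)⟩
  · let S := G.sc' n (n + 1) (n + 2)
    have hker : LinearMap.range S.moduleCatToCycles = LinearMap.ker Θ := by
      refine le_antisymm ?_ fun t ht => ?_
      · rintro _ ⟨y, rfl⟩
        refine (LCZ.homCls_succ_eq_zero_iff K hex (Coh.structureModule X) hK n _).2
          ⟨(homSec (A := A) (K.X n)).symm y, ?_⟩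
        refine (homSec (A := A) (K.X (n + 1))).injective ?_
        rw [homSec_comp, LinearEquiv.apply_symm_apply]
        exact ((homSec (A := A) (K.X (n + 1))).apply_symm_apply _).symm
      · obtain ⟨g, hg⟩ := (LCZ.homCls_succ_eq_zero_iff K hex (Coh.structureModule X) hK n _).1 ht
        refine ⟨homSec (A := A) (K.X n) g, Subtype.ext ?_⟩
        show ((gam A).map (K.d n (n + 1))).hom (homSec (A := A) (K.X n) g) = t.1
        rw [← homSec_comp, hg]
        exact (homSec (A := A) (K.X (n + 1))).apply_symm_apply _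
    exact ⟨((G.homologyIsoSc' n (n + 1) (n + 2) (by simp) (by simp)) ≪≫ S.moduleCatHomologyIso).toLinearEquiv ≪≫ₗ
      Submodule.quotEquivOfEq _ _ hker ≪≫ₗ Θ.quotKerEquivOfSurjective hsurj⟩

end Res

/-- cohomology through an injective resolution -/
theorem nonempty_hh_homology {F : X.Modules} (R : InjectiveResolution F) (n : ℕ) :
    Nonempty (Coh.HH X F n ≃ₗ[A] (((gam A).mapHomologicalComplex (ComplexShape.up ℕ)).obj R.cocomplex).homology n) := by
  have hex : ∀ m, R.cocomplex.ExactAt (m + 1) := R.cocomplex_exactAt_succ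
  obtain ⟨e⟩ := nonempty_cls_equiv (A := A) R.cocomplex (hex := hex) (hK := 
    fun p m => Ext.subsingleton_of_injective (Coh.structureModule X) (R.cocomplex.X p) m) n
  let c : F ≅ R.cocomplex.cycles 0 :=
    IsLimit.conePointUniqueUpToIso R.isLimitKernelFork (R.cocomplex.cyclesIsKernel 0 1 (by simp))
  let ψ : Ext (Coh.structureModule X) F n ≃ₗ[A] Ext (Coh.structureModule X) (R.cocomplex.cycles 0) n :=
    { toFun := fun x => x.comp (Ext.mk₀ c.hom) (add_zero n)
      invFun := fun x => x.comp (Ext.mk₀ c.inv) (add_zero n)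
      left_inv := fun x => by simp
      right_inv := fun x => by simp
      map_add' := fun x y => Ext.add_comp _ _ _ _
      map_smul' := fun a x => Ext.smul_comp _ _ _ _ }
  exact ⟨(hhExtEquiv F n).symm ≪≫ₗ ψ ≪≫ₗ e.symm⟩

/-- termwise functors commute with extension -/
theorem nonempty_map_extend {C D : Type*} [Category C] [Abelian C] [Category D] [Abelian D] (F : C ⥤ D) [F.Additive]
    (M : CochainComplex C ℕ) :
    Nonempty ((F.mapHomologicalComplex (ComplexShape.up ℤ)).obj (M.extend ComplexShape.embeddingUpNat) ≅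
      ((F.mapHomologicalComplex (ComplexShape.up ℕ)).obj M).extend ComplexShape.embeddingUpNat) := by
  classical
  let e := ComplexShape.embeddingUpNat
  have hz : ∀ (i' : ℤ), (¬ ∃ i, e.f i = i') → IsZero (F.obj ((M.extend e).X i')) ∧
      IsZero ((((F.mapHomologicalComplex (ComplexShape.up ℕ)).obj M).extend e).X i') :=
    fun i' h => ⟨F.map_isZero (HomologicalComplex.isZero_extend_X M e i' fun i hi => h ⟨i, hi⟩),
      HomologicalComplex.isZero_extend_X _ e i' fun i hi => h ⟨i, hi⟩⟩
  let ψ : ∀ i' : ℤ, F.obj ((M.extend e).X i') ≅ (((F.mapHomologicalComplex (ComplexShape.up ℕ)).obj M).extend e).X i' :=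
    fun i' => if h : ∃ i, e.f i = i' then F.mapIso (HomologicalComplex.extendXIso M e h.choose_spec) ≪≫
      (HomologicalComplex.extendXIso ((F.mapHomologicalComplex (ComplexShape.up ℕ)).obj M) e h.choose_spec).symm
    else (hz i' h).1.iso (hz i' h).2
  have hψ : ∀ (i : ℕ) (i' : ℤ) (h : e.f i = i'), (ψ i').hom =
      F.map (HomologicalComplex.extendXIso M e h).hom ≫
        (HomologicalComplex.extendXIso ((F.mapHomologicalComplex (ComplexShape.up ℕ)).obj M) e h).inv :=
    fun i i' h => by
      have h' : ∃ i, e.f i = i' := ⟨i, h⟩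
      obtain rfl : h'.choose = i := e.injective_f (h'.choose_spec.trans h.symm)
      simp only [ψ, dif_pos h', Iso.trans_hom, Functor.mapIso_hom, Iso.symm_hom]
  refine ⟨HomologicalComplex.Hom.isoOfComponents ψ fun i' j' _ => ?_⟩
  by_cases hi : ∃ i, e.f i = i'
  · by_cases hj : ∃ j, e.f j = j'
    · obtain ⟨i, hi⟩ := hi
      obtain ⟨j, hj⟩ := hj
      rw [hψ i i' hi, hψ j j' hj]
      change (F.map (HomologicalComplex.extendXIso M e hi).hom ≫ _) ≫ _ = F.map ((M.extend e).d i' j') ≫ _
      rw [HomologicalComplex.extend_d_eq _ e hi hj, HomologicalComplex.extend_d_eq _ e hi hj]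
      simp
    · exact (hz j' hj).2.eq_of_tgt _ _
  · exact (hz i' hi).1.eq_of_src _ _

variable [HTor.HasRΓA (X ↘ Spec (CommRingCat.of A))]

/-- derived global sections through an injective resolution -/
theorem nonempty_rgamma_res {F : X.Modules} (R : InjectiveResolution F) :
    Nonempty ((DerivedCategory.Q.obj ((gamCx A).obj R.cochainComplex) : Dual.D A) ≅
      (HTor.RΓA (X ↘ Spec (CommRingCat.of A))).obj (DCoh.inD X F)) := by
  haveI : IsGrothendieckAbelian.{u} X.Modules := DerPush.isGrothendieckAbelian_modules X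
  haveI : R.cochainComplex.IsKInjective := CochainComplex.isKInjective_of_injective R.cochainComplex 0
  haveI : IsIso ((DerivedCategory.Q : _ ⥤ DCoh.D X).map R.ι') := inferInstance
  haveI : (HTor.RΓA (X ↘ Spec (CommRingCat.of A))).IsRightDerivedFunctor
      ((HTor.gammaAKh (X ↘ Spec (CommRingCat.of A))).totalRightDerivedUnit DerivedCategory.Qh
        (HomotopyCategory.quasiIso X.Modules (ComplexShape.up ℤ)))
      (HomotopyCategory.quasiIso X.Modules (ComplexShape.up ℤ)) := inferInstance
  haveI := (AcycDef.isIso_unitQ_iff (gam A) (HTor.RΓA (X ↘ Spec (CommRingCat.of A))) _ R.cochainComplex).1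
    (AcycDef.isIso_unitQ_kInj (gam A) (HTor.RΓA (X ↘ Spec (CommRingCat.of A)))
      ((HTor.gammaAKh (X ↘ Spec (CommRingCat.of A))).totalRightDerivedUnit DerivedCategory.Qh
        (HomotopyCategory.quasiIso X.Modules (ComplexShape.up ℤ))) R.cochainComplex)
  exact ⟨((DerivedCategory.quotientCompQhIso (ModuleCat.{u} A)).app ((gamCx A).obj R.cochainComplex)).symm ≪≫
      asIso (((HTor.gammaAKh (X ↘ Spec (CommRingCat.of A))).totalRightDerivedUnit DerivedCategory.Qh
        (HomotopyCategory.quasiIso X.Modules (ComplexShape.up ℤ))).app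
          ((HomotopyCategory.quotient X.Modules (ComplexShape.up ℤ)).obj R.cochainComplex)) ≪≫
      (HTor.RΓA (X ↘ Spec (CommRingCat.of A))).mapIso
        (((DerivedCategory.quotientCompQhIso X.Modules).app R.cochainComplex) ≪≫
          (asIso (DerivedCategory.Q.map R.ι')).symm ≪≫
          ((DerivedCategory.singleFunctorIsoCompQ X.Modules 0).app F).symm)⟩

/-- **cohomology is the homology of derived global sections** -/
theorem nonempty_hh_rgamma (F : X.Modules) (n : ℕ) :
    Nonempty (Coh.HH X F n ≃ₗ[A]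
      (Dual.HD A ((HTor.RΓA (X ↘ Spec (CommRingCat.of A))).obj (DCoh.inD X F)) (n : ℤ) : Type u)) := by
  haveI : IsGrothendieckAbelian.{u} X.Modules := DerPush.isGrothendieckAbelian_modules X
  haveI : HasInjectiveResolutions X.Modules := DQPush.hasInj X
  obtain ⟨R⟩ := (inferInstance : HasInjectiveResolution F).out
  obtain ⟨e⟩ := nonempty_hh_homology (A := A) R n
  obtain ⟨eE⟩ := nonempty_map_extend (gam A) R.cocomplex
  obtain ⟨eR⟩ := nonempty_rgamma_res (A := A) R
  exact ⟨e ≪≫ₗ ((HomologicalComplex.extendHomologyIso _ ComplexShape.embeddingUpNat (j := n) (j' := (n : ℤ)) rfl).symm ≪≫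
    (HomologicalComplex.homologyFunctor _ _ (n : ℤ)).mapIso eE.symm ≪≫
    ((DerivedCategory.homologyFunctorFactors (ModuleCat.{u} A) (n : ℤ)).app _).symm ≪≫
    (DerivedCategory.homologyFunctor (ModuleCat.{u} A) (n : ℤ)).mapIso eR).toLinearEquiv⟩

/-- derived global sections of a module have no cohomology in negative degrees -/
theorem isZero_rgamma_neg (F : X.Modules) (i : ℤ) (hi : i < 0) :
    IsZero ((DerivedCategory.homologyFunctor (ModuleCat.{u} A) i).obj
      ((HTor.RΓA (X ↘ Spec (CommRingCat.of A))).obj (DCoh.inD X F))) := by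
  haveI : IsGrothendieckAbelian.{u} X.Modules := DerPush.isGrothendieckAbelian_modules X
  haveI : HasInjectiveResolutions X.Modules := DQPush.hasInj X
  obtain ⟨R⟩ := (inferInstance : HasInjectiveResolution F).out
  obtain ⟨eR⟩ := nonempty_rgamma_res (A := A) R
  refine IsZero.of_iso ?_ (((DerivedCategory.homologyFunctor (ModuleCat.{u} A) i).mapIso eR).symm.trans
      ((DerivedCategory.homologyFunctorFactors (ModuleCat.{u} A) i).app ((gamCx A).obj R.cochainComplex)))
  refine (HomologicalComplex.exactAt_iff_isZero_homology _ _).1 ?_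
  exact ShortComplex.exact_of_isZero_X₂ _ ((gam A).map_isZero (R.cochainComplex.isZero_of_isStrictlyGE 0 i hi))

end Groth.Agent.KunnAD.HH
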