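import Groth.Agent.KunnAD.HHBridge
import Groth.Agent.S3523
import Groth.Agent.KunnAD.Derived
import Groth.Agent.KunnAD.ExtMain
import Groth.Agent.TorBC.Chain
import Groth.Agent.DQCoh.RelTor
import Groth.Agent.Nakai.AlgEquiv
import Groth.Agent.KInj.Derived

/-!
The Künneth formula for sheaf cohomology over an affine base.
-/

set_option autoImplicit false
set_option backward.isDefEq.respectTransparency false
set_option backward.isDefEq.respectTransparency.types false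
set_option linter.style.haveILetI false
set_option linter.unusedSectionVars false
set_option maxHeartbeats 1000000

universe u

open CategoryTheory CategoryTheory.Limits AlgebraicGeometry TopologicalSpace Opposite
open scoped TensorProduct

attribute [local instance] HasDerivedCategory.standard

noncomputable section

namespace Groth.Agent.KunnAD.HH

variable {A : Type u} [CommRing A]

/-- derived global sections exist -/
theorem hasRΓA {X : Scheme.{u}} (f : X ⟶ Spec (CommRingCat.of A)) : HTor.HasRΓA f := by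
  haveI : IsGrothendieckAbelian.{u} X.Modules := DerPush.isGrothendieckAbelian_modules X
  exact (AcycDef.isDeforming_kInj (HTor.globalSectionsA f)).hasRightDerivedFunctor
    (HomotopyCategory.quasiIso X.Modules (ComplexShape.up ℤ))

/-- the zero module is flat -/
theorem isFlatOver_zero {X S : Scheme.{u}} (f : X ⟶ S) {M : X.Modules} (hM : IsZero M) : FlatMod.IsFlatOver f M :=
  fun x => by
    rw [DQCoh.isFlatOverAt_iff]
    haveI : Subsingleton ((DQCoh.stA f x).obj M) := ModuleCat.subsingleton_of_isZero ((DQCoh.stA f x).map_isZero hM)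
    infer_instance

/-- reindexing the antidiagonal by natural numbers -/
theorem nonempty_reindex (n : ℕ) (M : ℤ → Type u) (N : ℤ → Type u) [∀ i, AddCommGroup (M i)] [∀ i, Module A (M i)]
    [∀ i, AddCommGroup (N i)] [∀ i, Module A (N i)] (hM : ∀ i < 0, Subsingleton (M i)) (hN : ∀ i < 0, Subsingleton (N i))
    (M' N' : ℕ → Type u) [∀ i, AddCommGroup (M' i)] [∀ i, Module A (M' i)]
    [∀ i, AddCommGroup (N' i)] [∀ i, Module A (N' i)] (eM : ∀ p : ℕ, M' p ≃ₗ[A] M p) (eN : ∀ p : ℕ, N' p ≃ₗ[A] N p) :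
    Nonempty ((DirectSum (HTor.Antidiag (n : ℤ)) fun ij => M ij.1.1 ⊗[A] N ij.1.2) ≃ₗ[A]
      DirectSum (Finset.HasAntidiagonal.antidiagonal n) fun pq => M' pq.1.1 ⊗[A] N' pq.1.2) := by
  classical
  let c : Finset.HasAntidiagonal.antidiagonal n → HTor.Antidiag (n : ℤ) := fun pq =>
    ⟨((pq.1.1 : ℤ), (pq.1.2 : ℤ)), by
      have h := Finset.HasAntidiagonal.mem_antidiagonal.1 pq.2
      dsimp only
      omega⟩
  let e : ∀ pq, M' pq.1.1 ⊗[A] N' pq.1.2 ≃ₗ[A] M (c pq).1.1 ⊗[A] N (c pq).1.2 := fun pq =>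
    TensorProduct.congr (eM _) (eN _)
  let F : (DirectSum (Finset.HasAntidiagonal.antidiagonal n) fun pq => M' pq.1.1 ⊗[A] N' pq.1.2) →ₗ[A]
      DirectSum (HTor.Antidiag (n : ℤ)) fun ij => M ij.1.1 ⊗[A] N ij.1.2 :=
    DirectSum.toModule A _ _ fun pq => (DirectSum.lof A _ (fun ij : HTor.Antidiag (n : ℤ) => M ij.1.1 ⊗[A] N ij.1.2) (c pq)).comp
      (e pq).toLinearMap
  have hc : Function.Injective c := fun a b h => by
    have h' := congrArg Subtype.val h
    simp only [c, Prod.mk.injEq, Nat.cast_inj] at h'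
    exact Subtype.ext (Prod.ext h'.1 h'.2)
  have hcomp : ∀ (pq : Finset.HasAntidiagonal.antidiagonal n) x, DirectSum.component A _ _ (c pq) (F x) = e pq (x pq) := fun pq x => by
    induction x using DirectSum.induction_on with
    | zero => simp
    | add a b ha hb => rw [map_add, map_add, ha, hb, ← map_add]; rfl
    | of i a =>
      rw [← DirectSum.lof_eq_of A]
      simp only [F, DirectSum.toModule_lof, LinearMap.comp_apply]
      by_cases h : i = pq
      · subst h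
        rw [DirectSum.component.lof_self, DirectSum.lof_apply]
        rfl
      · rw [DirectSum.component.of, dif_neg fun h' => h (hc h').symm.symm]
        rw [DirectSum.lof_eq_of, DirectSum.of_eq_of_ne _ _ _ (Ne.symm h), map_zero]
  refine ⟨(LinearEquiv.ofBijective F ⟨fun x y h => DirectSum.ext_component A fun pq => (e pq).injective ?_, fun z => ?_⟩).symm⟩
  · exact (hcomp pq x).symm.trans ((congrArg (DirectSum.component A _ _ (c pq)) h).trans (hcomp pq y))
  · induction z using DirectSum.induction_on with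
    | zero => exact ⟨0, map_zero F⟩
    | add a b ha hb =>
      obtain ⟨x, rfl⟩ := ha
      obtain ⟨y, rfl⟩ := hb
      exact ⟨x + y, map_add F x y⟩
    | of ij a =>
      obtain ⟨⟨i, j⟩, hij⟩ := ij
      by_cases h : 0 ≤ i ∧ 0 ≤ j
      · obtain ⟨⟨p, rfl⟩, ⟨q, rfl⟩⟩ := (⟨Int.eq_ofNat_of_zero_le h.1, Int.eq_ofNat_of_zero_le h.2⟩ :
          (∃ p : ℕ, i = p) ∧ ∃ q : ℕ, j = q)
        let pq : Finset.HasAntidiagonal.antidiagonal n := ⟨(p, q), Finset.HasAntidiagonal.mem_antidiagonal.2 (by dsimp only at hij ⊢; omega)⟩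
        refine ⟨DirectSum.lof A _ (fun pq : Finset.HasAntidiagonal.antidiagonal n => M' pq.1.1 ⊗[A] N' pq.1.2) pq ((e pq).symm a), ?_⟩
        simp only [F, DirectSum.toModule_lof, LinearMap.comp_apply]
        rw [DirectSum.lof_eq_of]
        exact congrArg (DirectSum.of _ _) ((e pq).apply_symm_apply a)
      · haveI : Subsingleton (M i ⊗[A] N j) := by
          rcases not_and_or.1 h with h | h
          · haveI := hM i (by omega); infer_instance
          · haveI := hN j (by omega); infer_instance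
        refine ⟨0, ?_⟩
        rw [map_zero, show a = 0 from Subsingleton.elim (α := M i ⊗[A] N j) _ _, map_zero]

section

variable {X₁ X₂ : Scheme.{u}} (f₁ : X₁ ⟶ Spec (CommRingCat.of A)) (f₂ : X₂ ⟶ Spec (CommRingCat.of A))

open Groth.Agent.TorBC in
/-- the external product of two modules as a complex -/
theorem nonempty_ext_single (F₁ : X₁.Modules) (F₂ : X₂.Modules) :
    Nonempty (HTor.extTensorCx f₁ f₂ (sg F₁) (sg F₂) ≅
      sg (CohB1.tensorMod ((Scheme.Modules.pullback (pullback.fst f₁ f₂)).obj F₁)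
        ((Scheme.Modules.pullback (pullback.snd f₁ f₂)).obj F₂))) := by
  let p := pullback.fst f₁ f₂
  let q := pullback.snd f₁ f₂
  let e₁ := (HomologicalComplex.singleMapHomologicalComplex (Scheme.Modules.pullback p) (ComplexShape.up ℤ) 0).app F₁
  let e₂ := (HomologicalComplex.singleMapHomologicalComplex (Scheme.Modules.pullback q) (ComplexShape.up ℤ) 0).app F₂
  exact ⟨(DCoh.tensorCx.obj _).mapIso e₂ ≪≫ (DCoh.tensorCx.mapIso e₁).app _ ≪≫ (sR _ _).symm ≪≫
    (HomologicalComplex.singleMapHomologicalComplex ((Groth.Agent.KFlat.schB _).flip.obj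
      ((Scheme.Modules.pullback q).obj F₂)) (ComplexShape.up ℤ) 0).app _⟩

end

/-- affine diagonal over an affine base is absolute -/
theorem isAffineHom_diagonal_terminal {S Y : Scheme.{u}} [IsAffine S] (g : Y ⟶ S) [hg : IsAffineHom (pullback.diagonal g)] :
    IsAffineHom (pullback.diagonal (terminal.from Y)) := by
  have h0 : IsAffineHom (pullback.diagonal (terminal.from S)) := inferInstance
  have h := (MorphismProperty.diagonal @IsAffineHom).comp_mem g (terminal.from S) hg h0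
  rw [terminal.hom_ext (g ≫ terminal.from S) (terminal.from Y)] at h
  exact h

theorem isAffineHom_diagonal_prod {S Y₁ Y₂ : Scheme.{u}} (g₁ : Y₁ ⟶ S) (g₂ : Y₂ ⟶ S)
    [h₁ : IsAffineHom (pullback.diagonal g₁)] [h₂ : IsAffineHom (pullback.diagonal g₂)] :
    IsAffineHom (pullback.diagonal (pullback.fst g₁ g₂ ≫ g₁)) :=
  (MorphismProperty.diagonal @IsAffineHom).comp_mem (pullback.fst g₁ g₂) g₁
    (MorphismProperty.of_isPullback (P := MorphismProperty.diagonal @IsAffineHom)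
      (IsPullback.of_hasPullback g₁ g₂).flip h₂) h₁

section Main

variable (X₁ X₂ : Scheme.{u}) [X₁.Over (Spec (CommRingCat.of A))] [X₂.Over (Spec (CommRingCat.of A))]
  [QuasiCompact (X₁ ↘ Spec (CommRingCat.of A))] [IsAffineHom (pullback.diagonal (X₁ ↘ Spec (CommRingCat.of A)))]
  [QuasiCompact (X₂ ↘ Spec (CommRingCat.of A))] [IsAffineHom (pullback.diagonal (X₂ ↘ Spec (CommRingCat.of A)))]
  (F₁ : X₁.Modules) (hF₁ : Coh.IsQCoh F₁) (F₂ : X₂.Modules) (hF₂ : Coh.IsQCoh F₂)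
  (hfl : FlatMod.IsFlatOver (X₁ ↘ Spec (CommRingCat.of A)) F₁) (hH : ∀ p : ℕ, Module.Flat A (Coh.HH X₁ F₁ p))

include hF₁ hF₂ hfl hH in
/-- **Künneth formula** over an affine base -/
theorem nonempty_kunneth (n : ℕ) :
    letI : (pullback (X₁ ↘ Spec (CommRingCat.of A)) (X₂ ↘ Spec (CommRingCat.of A))).Over (Spec (CommRingCat.of A)) :=
      ⟨pullback.fst (X₁ ↘ Spec (CommRingCat.of A)) (X₂ ↘ Spec (CommRingCat.of A)) ≫ (X₁ ↘ Spec (CommRingCat.of A))⟩
    Nonempty ((DirectSum (Finset.HasAntidiagonal.antidiagonal n) fun pq => Coh.HH X₁ F₁ pq.1.1 ⊗[A] Coh.HH X₂ F₂ pq.1.2) ≃ₗ[A]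
      Coh.HH (pullback (X₁ ↘ Spec (CommRingCat.of A)) (X₂ ↘ Spec (CommRingCat.of A)))
        (CohB1.tensorMod ((Scheme.Modules.pullback (pullback.fst (X₁ ↘ Spec (CommRingCat.of A)) (X₂ ↘ Spec (CommRingCat.of A)))).obj F₁)
          ((Scheme.Modules.pullback (pullback.snd (X₁ ↘ Spec (CommRingCat.of A)) (X₂ ↘ Spec (CommRingCat.of A)))).obj F₂)) n) := by
  let f₁ := X₁ ↘ Spec (CommRingCat.of A)
  let f₂ := X₂ ↘ Spec (CommRingCat.of A)
  letI : (pullback f₁ f₂).Over (Spec (CommRingCat.of A)) := ⟨pullback.fst f₁ f₂ ≫ f₁⟩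
  haveI := hasRΓA f₁
  haveI := hasRΓA f₂
  haveI := hasRΓA (pullback.fst f₁ f₂ ≫ f₁)
  haveI : CompactSpace X₁ := QuasiCompact.compactSpace_of_compactSpace f₁
  haveI : CompactSpace X₂ := QuasiCompact.compactSpace_of_compactSpace f₂
  have hcov : ∀ (Y : Scheme.{u}) [CompactSpace Y],
      ∃ (N : ℕ) (U : Fin (N + 1) → Y.Opens), (∀ i, IsAffineOpen (U i)) ∧ ⨆ i, U i = ⊤ := fun Y _ => by
    obtain ⟨l, hl, hc⟩ := KunnAD.exists_affine_list Y
    refine ⟨l.length, Fin.cons ⊥ fun j : Fin l.length => l[j], fun i => ?_, top_le_iff.1 ?_⟩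
    · induction i using Fin.cases with
      | zero => exact isAffineOpen_bot Y
      | succ j => exact hl _ (List.getElem_mem _)
    · rw [← hc]
      exact iSup_le fun j => le_iSup_of_le j.succ (le_of_eq (by simp))
  obtain ⟨N₁, U₁, hU₁, hU₁'⟩ := hcov X₁
  obtain ⟨N₂, U₂, hU₂, hU₂'⟩ := hcov X₂
  have hq : ∀ {Y : Scheme.{u}} {M : Y.Modules}, Coh.IsQCoh M → ∀ i : ℤ, Coh.IsQCoh ((TorBC.sg M).X i) := fun hM i => by
    by_cases hi : i = 0
    · subst hi
      exact QC.isQCoh_of_iso (HomologicalComplex.singleObjXSelf (ComplexShape.up ℤ) 0 _).symm hM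
    · exact DQCoh.isQCoh_of_isZero (HomologicalComplex.isZero_single_obj_X _ _ _ _ hi)
  have hb : ∀ {Y : Scheme.{u}} (M : Y.Modules) (i : ℤ), 0 < i → IsZero ((TorBC.sg M).X i) := fun M i hi =>
    HomologicalComplex.isZero_single_obj_X _ _ _ _ (by omega)
  have hfl' : ∀ i : ℤ, FlatMod.IsFlatOver f₁ ((TorBC.sg F₁).X i) := fun i => by
    by_cases hi : i = 0
    · subst hi
      exact DQCoh.isFlatOver_of_iso (f := f₁) (HomologicalComplex.singleObjXSelf (ComplexShape.up ℤ) 0 _).symm hfl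
    · exact isFlatOver_zero f₁ (HomologicalComplex.isZero_single_obj_X _ _ _ _ hi)
  haveI : HTor.HasRΓA (X₁ ↘ Spec (CommRingCat.of A)) := ‹HTor.HasRΓA f₁›
  haveI : HTor.HasRΓA (X₂ ↘ Spec (CommRingCat.of A)) := ‹HTor.HasRΓA f₂›
  haveI : IsAffineHom (pullback.diagonal (terminal.from X₁)) := isAffineHom_diagonal_terminal f₁
  haveI : IsAffineHom (pullback.diagonal (terminal.from X₂)) := isAffineHom_diagonal_terminal f₂
  haveI : QuasiCompact (pullback.fst f₁ f₂ ≫ f₁) := inferInstance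
  haveI : CompactSpace ↥(pullback f₁ f₂) := QuasiCompact.compactSpace_of_compactSpace (pullback.fst f₁ f₂ ≫ f₁)
  haveI := isAffineHom_diagonal_prod f₁ f₂
  haveI : IsAffineHom (pullback.diagonal (terminal.from (pullback f₁ f₂))) := isAffineHom_diagonal_terminal (pullback.fst f₁ f₂ ≫ f₁)
  haveI : HTor.HasRΓA (pullback f₁ f₂ ↘ Spec (CommRingCat.of A)) := hasRΓA (pullback.fst f₁ f₂ ≫ f₁)
  obtain ⟨K₁, hK₁, -, ⟨eK₁⟩⟩ := Groth.Agent.KunnAD.exists_computes (A := A) U₁ hU₁ hU₁' (TorBC.sg F₁) (hq hF₁) 0 (hb F₁)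
  obtain ⟨L₁, q₁, hq₁', hL₁, hb₁⟩ := Groth.Agent.KunnAD.exists_free_resolution K₁ (0 + N₁) hK₁
  haveI := hq₁'
  have e₁ : HTor.Computes f₁ L₁ (DCoh.toD X₁ (TorBC.sg F₁)) :=
    ⟨asIso (DerivedCategory.Q.map q₁) ≪≫ eK₁⟩
  obtain ⟨K₂, hK₂, -, ⟨eK₂⟩⟩ := Groth.Agent.KunnAD.exists_computes (A := A) U₂ hU₂ hU₂' (TorBC.sg F₂) (hq hF₂) 0 (hb F₂)
  obtain ⟨L₂, q₂, hq₂', hL₂, hb₂⟩ := Groth.Agent.KunnAD.exists_free_resolution K₂ (0 + N₂) hK₂
  haveI := hq₂'
  have e₂ : HTor.Computes f₂ L₂ (DCoh.toD X₂ (TorBC.sg F₂)) :=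
    ⟨asIso (DerivedCategory.Q.map q₂) ≪≫ eK₂⟩
  have hpr : ∀ L : DRing.Cx A, (∀ i, Module.Free A (L.X i)) → ∀ i, Projective (L.X i) := fun L hL i => by
    haveI := hL i
    exact (IsProjective.iff_projective (L.X i)).1 inferInstance
  obtain ⟨eC⟩ := Groth.Agent.KunnAD.computes_ext (A := A) (pullback.fst f₁ f₂) (pullback.snd f₁ f₂) rfl
    pullback.condition.symm (IsPullback.of_hasPullback f₁ f₂) (TorBC.sg F₁) (TorBC.sg F₂) (hq hF₁) (hq hF₂)
    ⟨0, hb F₁⟩ ⟨0, hb F₂⟩ hfl' L₁ L₂ (hpr L₁ hL₁) (hpr L₂ hL₂) ⟨_, hb₁⟩ ⟨_, hb₂⟩ e₁ e₂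
  obtain ⟨e₁⟩ := e₁
  obtain ⟨e₂⟩ := e₂
  obtain ⟨eX⟩ := nonempty_ext_single f₁ f₂ F₁ F₂
  let hom := fun i : ℤ => DerivedCategory.homologyFunctor (ModuleCat.{u} A) i
  let fac := fun i : ℤ => DerivedCategory.homologyFunctorFactors (ModuleCat.{u} A) i
  let s₁ : ∀ i : ℤ, L₁.homology i ≅ (hom i).obj ((HTor.RΓA f₁).obj (DCoh.inD X₁ F₁)) := fun i =>
    ((fac i).app L₁).symm.trans ((hom i).mapIso (e₁.trans ((HTor.RΓA f₁).mapIso
      ((DerivedCategory.singleFunctorIsoCompQ X₁.Modules 0).app F₁).symm)))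
  let s₂ : ∀ i : ℤ, L₂.homology i ≅ (hom i).obj ((HTor.RΓA f₂).obj (DCoh.inD X₂ F₂)) := fun i =>
    ((fac i).app L₂).symm.trans ((hom i).mapIso (e₂.trans ((HTor.RΓA f₂).mapIso
      ((DerivedCategory.singleFunctorIsoCompQ X₂.Modules 0).app F₂).symm)))
  have hneg₁ : ∀ i : ℤ, i < 0 → Subsingleton (L₁.homology i) := fun i hi =>
    ModuleCat.subsingleton_of_isZero (IsZero.of_iso (isZero_rgamma_neg (A := A) F₁ i hi) (s₁ i))
  have hneg₂ : ∀ i : ℤ, i < 0 → Subsingleton (L₂.homology i) := fun i hi =>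
    ModuleCat.subsingleton_of_isZero (IsZero.of_iso (isZero_rgamma_neg (A := A) F₂ i hi) (s₂ i))
  let h₁ : ∀ p : ℕ, Coh.HH X₁ F₁ p ≃ₗ[A] L₁.homology (p : ℤ) := fun p =>
    (nonempty_hh_rgamma (A := A) F₁ p).some ≪≫ₗ (s₁ p).toLinearEquiv.symm
  let h₂ : ∀ p : ℕ, Coh.HH X₂ F₂ p ≃ₗ[A] L₂.homology (p : ℤ) := fun p =>
    (nonempty_hh_rgamma (A := A) F₂ p).some ≪≫ₗ (s₂ p).toLinearEquiv.symm
  have hflat : ∀ i : ℤ, Module.Flat A (L₁.homology i) := fun i => by
    rcases lt_or_ge i 0 with hi | hi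
    · haveI := hneg₁ i hi; infer_instance
    · obtain ⟨p, rfl⟩ := Int.eq_ofNat_of_zero_le hi
      haveI := hH p
      exact Module.Flat.of_linearEquiv (h₁ p).symm
  obtain ⟨Φ, -, hΦ⟩ := Groth.Agent.S3523.result A L₁ L₂ (fun i => by haveI := hL₁ i; infer_instance) ⟨_, hb₁⟩
    ⟨_, hb₂⟩ hflat (n : ℤ)
  obtain ⟨r⟩ := nonempty_reindex (A := A) n (fun i => L₁.homology i) (fun i => L₂.homology i) hneg₁ hneg₂
    (fun p => Coh.HH X₁ F₁ p) (fun p => Coh.HH X₂ F₂ p) h₁ h₂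
  haveI : HTor.HasRΓA (pullback f₁ f₂ ↘ Spec (CommRingCat.of A)) := hasRΓA (pullback.fst f₁ f₂ ≫ f₁)
  obtain ⟨hZ⟩ := nonempty_hh_rgamma (A := A) (CohB1.tensorMod ((Scheme.Modules.pullback (pullback.fst f₁ f₂)).obj F₁)
    ((Scheme.Modules.pullback (pullback.snd f₁ f₂)).obj F₂)) n
  let sZ := ((fac n).app (HTor.tensorCx L₁ L₂)).symm.trans ((hom n).mapIso (eC.trans
    ((HTor.RΓA (pullback.fst f₁ f₂ ≫ f₁)).mapIso ((DerivedCategory.Q.mapIso eX).trans
      ((DerivedCategory.singleFunctorIsoCompQ (pullback f₁ f₂).Modules 0).app _).symm))))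
  exact ⟨r.symm ≪≫ₗ LinearEquiv.ofBijective Φ hΦ ≪≫ₗ sZ.toLinearEquiv ≪≫ₗ hZ.symm⟩

end Main

end Groth.Agent.KunnAD.HH
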