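import Groth.Agent.W7Cech.GlobSec
import Groth.Agent.QC.IdealMod
import Groth.Agent.QC.Closure
import Groth.Agent.DQPush.QcFlasque
import Groth.Agent.RPushQC.SectionsExact
import Groth.Agent.IndEtLib.WContract

/-!
Complexes of quasi-coherent modules and their sections on affine opens.
-/

set_option autoImplicit false
set_option backward.isDefEq.respectTransparency false
set_option backward.isDefEq.respectTransparency.types false
set_option linter.style.haveILetI false

universe u

open CategoryTheory CategoryTheory.Limits AlgebraicGeometry TopologicalSpace Opposite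

noncomputable section

namespace Groth.Agent.KunnAD

open Groth.Agent.W7Cech (secA secRing)
open Groth.Agent.QC

variable (A : Type u) [CommRing A] {X : Scheme.{u}} [X.Over (Spec (CommRingCat.of A))]

instance additive_secA (V : X.Opens) : (secA A V).Additive where
  map_add := ModuleCat.hom_ext (LinearMap.ext fun _ => rfl)

/-- sections of a complex -/
abbrev secCx (V : X.Opens) : CochainComplex X.Modules ℤ ⥤ CochainComplex (ModuleCat.{u} A) ℤ :=
  (secA A V).mapHomologicalComplex (ComplexShape.up ℤ)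

lemma exactAt_secCx_iff (K : CochainComplex X.Modules ℤ) (V : X.Opens) (i : ℤ) :
    ((secCx A V).obj K).ExactAt i ↔
      ∀ x : Γ(K.X i, V), (K.d i (i + 1)).app V x = 0 → ∃ y, (K.d (i - 1) i).app V y = x := by
  rw [HomologicalComplex.exactAt_iff' _ (i - 1) i (i + 1) (by simp) (by simp), ShortComplex.moduleCat_exact_iff]
  rfl

variable {A}

lemma exists_preimage_of_exactAt {K : CochainComplex X.Modules ℤ} (hq : ∀ n, Coh.IsQCoh (K.X n)) {i : ℤ}
    (h : K.ExactAt i) {V : X.Opens} (hV : IsAffineOpen V) (x : Γ(K.X i, V))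
    (hx : (K.d i (i + 1)).app V x = 0) : ∃ y, (K.d (i - 1) i).app V y = x := by
  have h' := (K.exactAt_iff' (i - 1) i (i + 1) (by simp) (by simp)).1 h
  let k := kernel.lift (K.d i (i + 1)) (K.d (i - 1) i) (K.d_comp_d _ _ _)
  haveI : Epi k := (ShortComplex.exact_iff_epi_kernel_lift _).1 h'
  obtain ⟨z, hz⟩ := (mem_range_kernel_app (K.d i (i + 1)) V x).2 hx
  obtain ⟨y, hy⟩ := app_surjective_of_epi hV (hq _) (isQCoh_kernel (hq _) (hq _) _) k z
  refine ⟨y, Eq.trans ?_ ((congrArg _ hy).trans hz)⟩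
  change _ = (k ≫ kernel.ι _).app V y
  rw [kernel.lift_ι]

/-- Sections over affine opens of acyclic complexes of quasi-coherent modules are exact. -/
theorem acyclic_secCx {K : CochainComplex X.Modules ℤ} (hq : ∀ n, Coh.IsQCoh (K.X n)) (h : K.Acyclic)
    {V : X.Opens} (hV : IsAffineOpen V) : ((secCx A V).obj K).Acyclic := fun i =>
  (exactAt_secCx_iff A K V i).2 fun x hx => exists_preimage_of_exactAt hq (h i) hV x hx

/-- A complex of quasi-coherent modules with exact sections on the members of an affine cover is acyclic. -/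
theorem acyclic_of_cover {K : CochainComplex X.Modules ℤ} (hq : ∀ n, Coh.IsQCoh (K.X n)) {ι : Type*}
    (W : ι → X.Opens) (hW : ∀ j, IsAffineOpen (W j)) (hcov : ⨆ j, W j = ⊤)
    (h : ∀ j, ((secCx A (W j)).obj K).Acyclic) : K.Acyclic := by
  intro i
  rw [K.exactAt_iff' (i - 1) i (i + 1) (by simp) (by simp), ShortComplex.exact_iff_epi_kernel_lift]
  change Epi (kernel.lift (K.d i (i + 1)) (K.d (i - 1) i) (K.d_comp_d _ _ _))
  let k := kernel.lift (K.d i (i + 1)) (K.d (i - 1) i) (K.d_comp_d _ _ _)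
  have hZ : Coh.IsQCoh (kernel (K.d i (i + 1))) := isQCoh_kernel (hq _) (hq _) _
  have hC : Coh.IsQCoh (cokernel k) := isQCoh_cokernel (hq _) hZ k
  have hs : ∀ (j : ι) (z : Γ(kernel (K.d i (i + 1)), W j)), ∃ y, k.app (W j) y = z := by
    intro j z
    have hz : (K.d i (i + 1)).app (W j) ((kernel.ι (K.d i (i + 1))).app (W j) z) = 0 :=
      (mem_range_kernel_app _ _ _).1 ⟨z, rfl⟩
    obtain ⟨y, hy⟩ := (exactAt_secCx_iff A K (W j) i).1 (h j i) _ hz
    refine ⟨y, app_injective_of_mono (kernel.ι _) (W j) (Eq.trans ?_ hy)⟩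
    change (k ≫ kernel.ι _).app (W j) y = _
    rw [kernel.lift_ι]
  have h0 : ∀ (j : ι) (c : Γ(cokernel k, W j)), c = 0 := fun j c => by
    obtain ⟨t, rfl⟩ := app_surjective_of_epi (hW j) hZ hC (cokernel.π k) c
    obtain ⟨s, rfl⟩ := hs j t
    change (k ≫ cokernel.π k).app _ s = 0
    rw [cokernel.condition]
    rfl
  have hz : IsZero (cokernel k) := by
    rw [IsZero.iff_id_eq_zero]
    haveI : IsIso (0 : cokernel k ⟶ cokernel k) := by
      refine QC.isIso_of_restrict_cover (fun j => (hW j).fromSpec) (fun x => ?_) _ fun j =>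
        isIso_restrict_of_bijective (hW j) hC hC _ ⟨fun a b _ => (h0 j a).trans (h0 j b).symm, fun c => ⟨c, (h0 j _).trans (h0 j c).symm⟩⟩
      obtain ⟨j, hj⟩ := TopologicalSpace.Opens.mem_iSup.1 (hcov.symm ▸ trivial : x ∈ ⨆ j, W j)
      exact ⟨j, (hW j).range_fromSpec.symm ▸ hj⟩
    exact (IsIso.hom_inv_id (0 : cokernel k ⟶ cokernel k)).symm.trans zero_comp
  exact Preadditive.epi_of_cokernel_zero (hz.eq_of_tgt _ _)

/-- Quasi-coherent with flat sections over affine opens. -/
structure FlatSec (M : X.Modules) : Prop where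
  qcoh : Coh.IsQCoh M
  flat : ∀ V : X.Opens, IsAffineOpen V → Module.Flat A ((secA A V).obj M)

variable (A) in
lemma flat_of_iso {M N : ModuleCat.{u} A} (e : M ≅ N) [Module.Flat A M] : Module.Flat A N :=
  Module.Flat.of_linearEquiv e.toLinearEquiv.symm

variable (A) in
lemma flat_map_biprod {C : Type*} [Category* C] [Preadditive C] [HasBinaryBiproducts C]
    (F : C ⥤ ModuleCat.{u} A) [F.Additive] (M N : C) [Module.Flat A (F.obj M)] [Module.Flat A (F.obj N)] :
    Module.Flat A (F.obj (M ⊞ N)) :=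
  haveI := preservesBinaryBiproducts_of_preservesBiproducts F
  haveI : Module.Flat A (ModuleCat.of A (F.obj M × F.obj N)) := IndEtLib.flat_prod (N := F.obj M) (F := F.obj N)
  flat_of_iso A ((F.mapBiprod M N) ≪≫ ModuleCat.biprodIsoProd _ _).symm

lemma FlatSec.biprod {M N : X.Modules} (hM : FlatSec (A := A) M) (hN : FlatSec (A := A) N) :
    FlatSec (A := A) (M ⊞ N) :=
  ⟨RPushQC.isQCoh_biprod hM.qcoh hN.qcoh, fun V hV =>
    haveI := hM.flat V hV
    haveI := hN.flat V hV
    flat_map_biprod A (secA A V) M N⟩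

lemma FlatSec.of_iso {M N : X.Modules} (e : M ≅ N) (hM : FlatSec (A := A) M) : FlatSec (A := A) N :=
  ⟨QC.isQCoh_of_iso e hM.qcoh, fun V hV =>
    haveI := hM.flat V hV
    flat_of_iso A ((secA A V).mapIso e)⟩

end Groth.Agent.KunnAD
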